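import Mathlib

/-!
# Flatness of local rings of algebras: base change and descent
-/

set_option autoImplicit false
set_option synthInstance.maxHeartbeats 400000

universe u

open TensorProduct

namespace Groth.Agent.FlatUnib5

/-- `B` is flat over `A` at the prime `q`. -/
abbrev FlatAt (A : Type u) [CommRing A] {B : Type u} [CommRing B] [Algebra A B] (q : Ideal B) [q.IsPrime] : Prop :=
  Module.Flat A (Localization.AtPrime q)

theorem flatAt_iff_localizedModule (A : Type u) [CommRing A] {B : Type u} [CommRing B] [Algebra A B] (q : Ideal B)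
    [q.IsPrime] : Module.Flat A (LocalizedModule q.primeCompl B) ↔ FlatAt A q := by
  let e : LocalizedModule q.primeCompl B ≃ₗ[B] Localization.AtPrime q :=
    IsLocalizedModule.iso q.primeCompl (Algebra.linearMap B (Localization.AtPrime q))
  exact ⟨fun _ => Module.Flat.of_linearEquiv (e.restrictScalars A).symm,
    fun _ => Module.Flat.of_linearEquiv (e.restrictScalars A)⟩

/-- Transport along an isomorphism of algebras. -/
theorem flatAt_equiv {A B B' : Type u} [CommRing A] [CommRing B] [CommRing B'] [Algebra A B] [Algebra A B']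
    (e : B ≃ₐ[A] B') (q' : Ideal B') [q'.IsPrime] : FlatAt A (q'.comap e) ↔ FlatAt A q' := by
  let f : Localization.AtPrime (q'.comap e) →+* Localization.AtPrime q' :=
    IsLocalization.map (T := q'.primeCompl) (M := (q'.comap e).primeCompl) _
      (e : B ≃+* B').toRingHom (fun _ h => h)
  let g : Localization.AtPrime q' →+* Localization.AtPrime (q'.comap e) :=
    IsLocalization.map (T := (q'.comap e).primeCompl) (M := q'.primeCompl) _
      (e.symm : B' ≃+* B).toRingHom (fun y h => by simpa using h)
  have hfg : f.comp g = RingHom.id _ := IsLocalization.ringHom_ext q'.primeCompl (RingHom.ext fun b => by simp [f, g])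
  have hgf : g.comp f = RingHom.id _ :=
    IsLocalization.ringHom_ext (q'.comap e).primeCompl (RingHom.ext fun b => by simp [f, g])
  have hA : ∀ a, f (algebraMap A _ a) = algebraMap A _ a := fun a => by
    rw [IsScalarTower.algebraMap_apply A B (Localization.AtPrime (q'.comap e))]
    refine (IsLocalization.map_eq _ _).trans ?_
    show algebraMap B' _ (e (algebraMap A B a)) = _
    rw [e.commutes, ← IsScalarTower.algebraMap_apply]
  let ee : Localization.AtPrime (q'.comap e) ≃ₐ[A] Localization.AtPrime q' :=
    AlgEquiv.ofBijective { f with commutes' := hA }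
      ⟨Function.LeftInverse.injective (g := g) fun x => RingHom.congr_fun hgf x,
        Function.RightInverse.surjective (g := g) fun x => RingHom.congr_fun hfg x⟩
  exact ⟨fun _ => Module.Flat.of_linearEquiv ee.symm.toLinearEquiv,
    fun _ => Module.Flat.of_linearEquiv ee.toLinearEquiv⟩

/-- The base change of the map to a localisation. -/
noncomputable abbrev tensorAlg (R R' : Type u) {S : Type u} [CommRing R] [CommRing R'] [CommRing S] [Algebra R R']
    [Algebra R S] (Sq : Type u) [CommRing Sq] [Algebra R Sq] [Algebra S Sq] [IsScalarTower R S Sq] :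
    Algebra (R' ⊗[R] S) (R' ⊗[R] Sq) :=
  (Algebra.TensorProduct.map (AlgHom.id R' R') (IsScalarTower.toAlgHom R S Sq)).toRingHom.toAlgebra

/-- Localisation commutes with base change. -/
theorem isLocalization_tensor {R R' S : Type u} [CommRing R] [CommRing R'] [CommRing S] [Algebra R R'] [Algebra R S]
    (M : Submonoid S) (Sq : Type u) [CommRing Sq] [Algebra R Sq] [Algebra S Sq] [IsScalarTower R S Sq]
    [IsLocalization M Sq] :
    letI := tensorAlg R R' (S := S) Sq
    IsLocalization (M.map (Algebra.TensorProduct.includeRight : S →ₐ[R] R' ⊗[R] S).toRingHom) (R' ⊗[R] Sq) := by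
  let Y := R' ⊗[R] Sq
  let cA : R' ⊗[R] S →ₐ[R'] Y :=
    Algebra.TensorProduct.map (AlgHom.id R' R') (IsScalarTower.toAlgHom R S Sq)
  letI : Algebra (R' ⊗[R] S) Y := tensorAlg R R' Sq
  letI : Algebra S (R' ⊗[R] S) := Algebra.TensorProduct.rightAlgebra
  letI : Algebra S Y := (cA.toRingHom.comp (algebraMap S (R' ⊗[R] S))).toAlgebra
  letI : Algebra Sq Y := Algebra.TensorProduct.rightAlgebra
  haveI : IsScalarTower S (R' ⊗[R] S) Y := IsScalarTower.of_algebraMap_eq fun _ => rfl
  haveI : IsScalarTower S Sq Y := IsScalarTower.of_algebraMap_eq fun s => rfl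
  haveI : IsScalarTower R (R' ⊗[R] S) Y := IsScalarTower.of_algebraMap_eq fun r => by
    show algebraMap R Y r = cA (algebraMap R (R' ⊗[R] S) r)
    rw [show algebraMap R (R' ⊗[R] S) r = algebraMap R' _ (algebraMap R R' r) from
      IsScalarTower.algebraMap_apply R R' _ r, AlgHom.commutes, ← IsScalarTower.algebraMap_apply]
  haveI : IsScalarTower R' (R' ⊗[R] S) Y := IsScalarTower.of_algebraMap_eq fun a => (cA.commutes a).symm
  haveI : IsScalarTower R S Y := IsScalarTower.of_algebraMap_eq fun r => by
    show algebraMap R Y r = cA (algebraMap S (R' ⊗[R] S) (algebraMap R S r))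
    rw [← IsScalarTower.algebraMap_apply R S (R' ⊗[R] S)]
    exact IsScalarTower.algebraMap_apply R (R' ⊗[R] S) Y r
  have hT : Algebra.IsPushout R S R' (R' ⊗[R] S) := inferInstance
  haveI : Algebra.IsPushout R Sq R' Y := inferInstance
  have : Algebra.IsPushout S Sq (R' ⊗[R] S) Y := by
    haveI := hT
    exact (Algebra.IsPushout.comp_iff (R := R) (S := S) (R' := R') (S' := R' ⊗[R] S) (T := Sq) (T' := Y)).1
      inferInstance
  exact (Algebra.isLocalization_iff_isPushout M Sq).2 this.symm

/-- Flatness at a prime is stable under base change. -/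
theorem flatAt_tensor {R R' S : Type u} [CommRing R] [CommRing R'] [CommRing S] [Algebra R R'] [Algebra R S]
    (Q' : Ideal (R' ⊗[R] S)) [Q'.IsPrime] (q : Ideal S) [q.IsPrime]
    (hq : Q'.comap (Algebra.TensorProduct.includeRight : S →ₐ[R] R' ⊗[R] S).toRingHom = q)
    (h : FlatAt R q) : FlatAt R' Q' := by
  let Sq := Localization.AtPrime q
  let Y := R' ⊗[R] Sq
  let Z := Localization.AtPrime Q'
  haveI : Module.Flat R Sq := h
  let ι : S →+* Z := (algebraMap (R' ⊗[R] S) Z).comp
    (Algebra.TensorProduct.includeRight : S →ₐ[R] R' ⊗[R] S).toRingHom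
  have hι : ∀ s : q.primeCompl, IsUnit (ι s) := fun s =>
    IsLocalization.map_units Z (⟨(1 : R') ⊗ₜ[R] (s : S), fun hs => s.2 (hq.le hs)⟩ : Q'.primeCompl)
  let lS : Sq →+* Z := IsLocalization.lift (M := q.primeCompl) hι
  have hlS : ∀ r, lS (algebraMap R Sq r) = algebraMap R Z r := fun r => by
    rw [IsScalarTower.algebraMap_apply R S Sq, IsLocalization.lift_eq]
    show algebraMap (R' ⊗[R] S) Z ((Algebra.TensorProduct.includeRight : S →ₐ[R] R' ⊗[R] S) (algebraMap R S r)) = _
    rw [AlgHom.commutes, ← IsScalarTower.algebraMap_apply]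
  let lY : Y →ₐ[R'] Z := Algebra.TensorProduct.lift (Algebra.ofId R' Z)
    { lS with commutes' := hlS } (fun _ _ => Commute.all _ _)
  let cA : R' ⊗[R] S →ₐ[R'] Y :=
    Algebra.TensorProduct.map (AlgHom.id R' R') (IsScalarTower.toAlgHom R S Sq)
  have hcomp : ∀ t, lY (cA t) = algebraMap (R' ⊗[R] S) Z t := fun t => by
    induction t using TensorProduct.induction_on with
    | zero => simp
    | tmul a s =>
      show algebraMap R' Z a * lS (algebraMap S Sq s) = _
      rw [IsLocalization.lift_eq, IsScalarTower.algebraMap_apply R' (R' ⊗[R] S) Z]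
      show algebraMap (R' ⊗[R] S) Z _ * algebraMap (R' ⊗[R] S) Z _ = _
      rw [← map_mul]
      simp
    | add x y hx hy => simp only [map_add, hx, hy]
  letI : Algebra Y Z := lY.toRingHom.toAlgebra
  haveI : IsScalarTower R' Y Z := IsScalarTower.of_algebraMap_eq fun a => (lY.commutes a).symm
  letI : Algebra (R' ⊗[R] S) Y := cA.toRingHom.toAlgebra
  haveI : IsScalarTower (R' ⊗[R] S) Y Z := IsScalarTower.of_algebraMap_eq fun t => (hcomp t).symm
  let W : Submonoid (R' ⊗[R] S) :=
    q.primeCompl.map (Algebra.TensorProduct.includeRight : S →ₐ[R] R' ⊗[R] S).toRingHom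
  haveI : IsLocalization W Y := by
    exact isLocalization_tensor q.primeCompl Sq
  haveI : IsLocalization (Q'.primeCompl.map (algebraMap (R' ⊗[R] S) Y)) Z :=
    IsLocalization.isLocalization_of_submonoid_le Y Z W Q'.primeCompl (by
      rintro _ ⟨s, hs, rfl⟩
      exact fun hQ => hs (hq.le hQ))
  haveI : Module.Flat Y Z := IsLocalization.flat Z (Q'.primeCompl.map (algebraMap (R' ⊗[R] S) Y))
  haveI : Module.Flat R' Y := inferInstance
  exact Module.Flat.trans R' Y Z

/-- Flatness at a prime, along a tower of bases. -/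
theorem flatAt_tensor_tower {A C C' B : Type u} [CommRing A] [CommRing C] [CommRing C'] [CommRing B] [Algebra A C]
    [Algebra A C'] [Algebra C C'] [IsScalarTower A C C'] [Algebra A B] (Q' : Ideal (C' ⊗[A] B)) [Q'.IsPrime]
    (Q : Ideal (C ⊗[A] B)) [Q.IsPrime]
    (hQ : Q'.comap (Algebra.TensorProduct.map (IsScalarTower.toAlgHom A C C') (AlgHom.id A B)).toRingHom = Q)
    (h : FlatAt C Q) : FlatAt C' Q' := by
  let e : C' ⊗[C] (C ⊗[A] B) ≃ₐ[C'] C' ⊗[A] B := Algebra.TensorProduct.cancelBaseChange A C C' C' B
  rw [← flatAt_equiv e]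
  refine flatAt_tensor (Q'.comap e) Q ?_ h
  rw [← hQ]
  ext t
  have key : e ((1 : C') ⊗ₜ[C] t) = Algebra.TensorProduct.map (IsScalarTower.toAlgHom A C C') (AlgHom.id A B) t := by
    induction t using TensorProduct.induction_on with
    | zero => simp
    | tmul c b => simp [e, Algebra.smul_def]
    | add x y hx hy => rw [TensorProduct.tmul_add, map_add, hx, hy, map_add]
  exact iff_of_eq (congrArg (· ∈ Q') key)

/-- Flatness at a prime descends along a faithfully flat map of the base. -/
theorem flatAt_of_flat_baseChange {A E B : Type u} [CommRing A] [CommRing E] [CommRing B] [Algebra A E]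
    [Module.Flat A E] [Algebra A B] (qE : Ideal (E ⊗[A] B)) [qE.IsPrime] (q : Ideal B) [q.IsPrime]
    (hq : qE.comap (Algebra.TensorProduct.includeRight : B →ₐ[A] E ⊗[A] B).toRingHom = q)
    (h : FlatAt E qE) : FlatAt A q := by
  let X := Localization.AtPrime q
  let Y := Localization.AtPrime qE
  haveI : Module.Flat E Y := h
  haveI hY : Module.Flat A Y := Module.Flat.trans A E Y
  letI : Algebra B (E ⊗[A] B) := Algebra.TensorProduct.rightAlgebra
  haveI : Module.Flat B (E ⊗[A] B) :=
    Module.Flat.of_linearEquiv (Algebra.IsPushout.equiv A B E (E ⊗[A] B)).symm.toLinearEquiv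
  haveI hover : qE.LiesOver q := ⟨hq.symm⟩
  letI : Algebra X Y := (Localization.localRingHom q qE (algebraMap B (E ⊗[A] B)) hq.symm).toAlgebra
  haveI : IsScalarTower B X Y := IsScalarTower.of_algebraMap_eq fun b => by
    show algebraMap B Y b = Localization.localRingHom q qE _ hq.symm (algebraMap B X b)
    rw [Localization.localRingHom_to_map]
    exact IsScalarTower.algebraMap_apply B (E ⊗[A] B) Y b
  haveI : IsLocalHom (algebraMap X Y) := Localization.isLocalHom_localRingHom q qE _ hq.symm
  haveI : Module.Flat X Y := by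
    haveI : Module.Flat B Y := Module.Flat.trans B (E ⊗[A] B) Y
    exact (Module.flat_iff_of_isLocalization X q.primeCompl Y).2 inferInstance
  haveI : Module.FaithfullyFlat X Y := Module.FaithfullyFlat.of_flat_of_isLocalHom
  haveI : IsScalarTower A B (E ⊗[A] B) := IsScalarTower.of_algebraMap_eq fun a => by
    show algebraMap A (E ⊗[A] B) a = (1 : E) ⊗ₜ algebraMap A B a
    rw [Algebra.TensorProduct.algebraMap_apply, Algebra.algebraMap_eq_smul_one, Algebra.algebraMap_eq_smul_one,
      TensorProduct.smul_tmul]
  haveI : IsScalarTower A X Y := IsScalarTower.of_algebraMap_eq fun a => by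
    rw [IsScalarTower.algebraMap_apply A B X, ← IsScalarTower.algebraMap_apply B X Y,
      IsScalarTower.algebraMap_apply B (E ⊗[A] B) Y, ← IsScalarTower.algebraMap_apply A B (E ⊗[A] B),
      ← IsScalarTower.algebraMap_apply]
  haveI : Module.Flat A (Y ⊗[X] X) := Module.Flat.of_linearEquiv
    ((TensorProduct.AlgebraTensorModule.rid X X Y).restrictScalars A)
  rw [FlatAt, Module.Flat.iff_lTensor_injective']
  intro I
  let φ : X ⊗[A] I →ₗ[X] X ⊗[A] A := AlgebraTensorModule.lTensor X X (I.subtype)
  have : Function.Injective (φ.lTensor Y) := by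
    have hinj : Function.Injective (I.subtype.lTensor (Y ⊗[X] X)) :=
      Module.Flat.lTensor_preserves_injective_linearMap _ I.subtype_injective
    let e₁ : Y ⊗[X] (X ⊗[A] I) ≃ₗ[A] (Y ⊗[X] X) ⊗[A] I :=
      (AlgebraTensorModule.assoc A X X Y X I).symm.restrictScalars A
    let e₂ : Y ⊗[X] (X ⊗[A] A) ≃ₗ[A] (Y ⊗[X] X) ⊗[A] A :=
      (AlgebraTensorModule.assoc A X X Y X A).symm.restrictScalars A
    have hsq : ∀ z, e₂ (φ.lTensor Y z) = I.subtype.lTensor (Y ⊗[X] X) (e₁ z) := by
      intro z
      induction z using TensorProduct.induction_on with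
      | zero => simp
      | tmul y w =>
        induction w using TensorProduct.induction_on with
        | zero => simp
        | tmul x i => simp [φ, e₁, e₂]
        | add w w' hw hw' => simp only [TensorProduct.tmul_add, map_add, hw, hw']
      | add z z' hz hz' => simp only [map_add, hz, hz']
    intro z z' hzz
    exact e₁.injective (hinj (by rw [← hsq, ← hsq, hzz]))
  exact (Module.FaithfullyFlat.lTensor_injective_iff_injective X Y φ).1 this

end Groth.Agent.FlatUnib5
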