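import Groth.Agent.FlatModel.InjModMax
import Groth.Agent.FlatUnib5.Loc

/-!
# Descent of flatness at a prime to a finitely generated subring
-/

set_option autoImplicit false
set_option synthInstance.maxHeartbeats 400000

universe u

open MvPolynomial TensorProduct
open Groth.Agent.FlatModel

namespace Groth.Agent.FlatUnib5

variable {a n : ℕ} {R₀ : Type u} [CommRing R₀] (K₀ : Submodule (MvPolynomial (Fin n) R₀) (V a n R₀))

/-- Flatness of a presented module at a prime descends to a finitely generated subring. -/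
theorem exists_fg_ptFlat [IsNoetherianRing R₀] {R : Type u} [CommRing R] [Algebra R₀ R]
    (Q : Ideal (MvPolynomial (Fin n) R)) [Q.IsPrime] (h : PtFlat K₀ R Q.primeCompl) :
    ∃ R₁ : Subalgebra R₀ R, R₁.FG ∧
      PtFlat K₀ R₁ (Q.comap (MvPolynomial.map (σ := Fin n) R₁.val.toRingHom)).primeCompl := by
  classical
  obtain ⟨S, hS, hcover⟩ := exists_cover K₀ ⊥
  choose G hG using fun p : Ideal R₀ => (IsNoetherian.noetherian (K₀ ⊓ CJ a n p) : (K₀ ⊓ CJ a n p).FG)
  let T : Ideal R₀ → (R₁ : Subalgebra R₀ R) → MvPolynomial (Fin n) R₁ → Set (V a n R₀) := fun p R₁ g =>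
    {t | g • mapV (algebraMap R₀ R₁) t ∈
      ((((p.map (algebraMap R₀ R₁)).map C : Ideal (MvPolynomial (Fin n) R₁))) • KK K₀ R₁)}
  have hmono : ∀ p (R₁ R₂ : Subalgebra R₀ R) (hle : R₁ ≤ R₂) (g : MvPolynomial (Fin n) R₁)
      (g' : MvPolynomial (Fin n) R₂), T p R₁ g ⊆ T p R₂ (g' * MvPolynomial.map (Subalgebra.inclusion hle).toRingHom g) := by
    intro p R₁ R₂ hle g g' t ht
    simp only [T, Set.mem_setOf_eq, map_smul_KK_eq_span] at ht ⊢
    have := span_mono_subalgebra hle ht
    rw [mapV_smul, mapV_algebraMap] at this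
    rw [mul_smul]
    exact Submodule.smul_mem _ _ this
  have hone : ∀ p, ∀ t ∈ K₀, t ∈ CJ a n p → ∃ R₁ : Subalgebra R₀ R, R₁.FG ∧ ∃ g : MvPolynomial (Fin n) R₁,
      MvPolynomial.map R₁.val.toRingHom g ∉ Q ∧ t ∈ T p R₁ g := by
    intro p t ht htp
    have h1 : mapV (algebraMap R₀ R) t ∈ CJ a n (p.map (algebraMap R₀ R)) := mem_CJ.2 fun i =>
      MvPolynomial.mem_map_C_iff.2 fun d => by
        rw [mapV_apply, MvPolynomial.coeff_map]
        exact Ideal.mem_map_of_mem _ (MvPolynomial.mem_map_C_iff.1 (mem_CJ.1 htp i) d)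
    obtain ⟨s, hs, h2⟩ := h _ _ (mapL_mem_KK K₀ ht) h1
    rw [map_smul_KK_eq_span] at h2
    obtain ⟨R₁, hR₁, x₁, hx₁, hx₁t⟩ := exists_fg_span_descent h2
    let R₂ := R₁ ⊔ Algebra.adjoin R₀ (s.coeffs : Set R)
    obtain ⟨g, hg⟩ : s ∈ Set.range (MvPolynomial.map R₂.val.toRingHom) :=
      MvPolynomial.mem_range_map_iff_coeffs_subset.2 fun c hc =>
        ⟨⟨c, (le_sup_right : _ ≤ R₂) (Algebra.subset_adjoin hc)⟩, rfl⟩
    refine ⟨R₂, hR₁.sup (Subalgebra.fg_adjoin_finset _), g, hg.symm ▸ hs, ?_⟩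
    have hx₂ := span_mono_subalgebra (le_sup_left : R₁ ≤ R₂) hx₁
    have : mapV (Subalgebra.inclusion le_sup_left).toRingHom x₁ = g • mapV (algebraMap R₀ R₂) t :=
      mapV_injective (g := R₂.val.toRingHom) Subtype.val_injective (by
        rw [mapV_val_inclusion, hx₁t, mapV_smul, hg, mapV_algebraMap]
        rfl)
    simp only [T, Set.mem_setOf_eq, map_smul_KK_eq_span]
    exact this ▸ hx₂
  have hfin : ∀ W : Finset (Ideal R₀ × V a n R₀), (∀ w ∈ W, w.2 ∈ K₀ ⊓ CJ a n w.1) →
      ∃ R₁ : Subalgebra R₀ R, R₁.FG ∧ ∃ g : MvPolynomial (Fin n) R₁,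
        MvPolynomial.map R₁.val.toRingHom g ∉ Q ∧ ∀ w ∈ W, w.2 ∈ T w.1 R₁ g := by
    intro W
    induction W using Finset.induction with
    | empty =>
      exact fun _ => ⟨⊥, Subalgebra.fg_bot, 1, by
        rw [map_one]; exact (Ideal.ne_top_iff_one Q).1 (Ideal.IsPrime.ne_top ‹_›), by simp⟩
    | insert w W _ ih =>
      intro hW
      obtain ⟨R₁, h₁, g₁, hg₁, h₁'⟩ := ih fun z hz => hW z (Finset.mem_insert_of_mem hz)
      obtain ⟨R₂, h₂, g₂, hg₂, h₂'⟩ := hone w.1 w.2 (hW w (Finset.mem_insert_self _ _)).1 (hW w (Finset.mem_insert_self _ _)).2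
      let i₁ := MvPolynomial.map (σ := Fin n) (Subalgebra.inclusion (le_sup_left : R₁ ≤ R₁ ⊔ R₂)).toRingHom
      let i₂ := MvPolynomial.map (σ := Fin n) (Subalgebra.inclusion (le_sup_right : R₂ ≤ R₁ ⊔ R₂)).toRingHom
      refine ⟨R₁ ⊔ R₂, h₁.sup h₂, i₁ g₁ * i₂ g₂, ?_, fun z hz => ?_⟩
      · rw [map_mul]
        refine Ideal.IsPrime.mul_notMem ‹_› ?_ ?_
        · simp only [i₁, MvPolynomial.map_map]; exact hg₁
        · simp only [i₂, MvPolynomial.map_map]; exact hg₂
      rcases Finset.mem_insert.1 hz with rfl | hz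
      · exact hmono _ _ _ le_sup_right g₂ (i₁ g₁) h₂'
      · rw [mul_comm]
        exact hmono _ _ _ le_sup_left g₁ (i₂ g₂) (h₁' z hz)
  obtain ⟨R₁, hR₁, g₁, hg₁, hW⟩ := hfin (S.biUnion fun x => (G x.1).image fun t => (x.1, t)) (by
    intro w hw
    simp only [Finset.mem_biUnion, Finset.mem_image] at hw
    obtain ⟨x, -, t, ht, rfl⟩ := hw
    exact (hG x.1).le (Submodule.subset_span ht))
  refine ⟨R₁, hR₁, fun J x hx hxJ => ?_⟩
  have : Algebra.FiniteType R₀ R₁ := (Subalgebra.fg_iff_finiteType R₁).1 hR₁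
  have : IsNoetherianRing R₁ := Algebra.FiniteType.isNoetherianRing R₀ R₁
  let c : Ideal (MvPolynomial (Fin n) R₁) :=
    ((J.map C : Ideal (MvPolynomial (Fin n) R₁)) • KK K₀ R₁).comap (LinearMap.toSpanSingleton _ _ x)
  have hgc : g₁ ∈ c.radical := by
    rw [Ideal.radical_eq_sInf, Ideal.mem_sInf]
    rintro P ⟨hcP, hP⟩
    by_contra hgP
    obtain ⟨⟨p, f⟩, hpf, hpP, hfP⟩ :=
      hcover (P.comap ((C : R₁ →+* MvPolynomial (Fin n) R₁).comp (algebraMap R₀ R₁))) (Ideal.IsPrime.comap _) bot_le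
    have hT : ∀ t ∈ K₀, t ∈ CJ a n p → g₁ • mapV (algebraMap R₀ R₁) t ∈
        (((p.map (algebraMap R₀ R₁)).map C : Ideal (MvPolynomial (Fin n) R₁))) • KK K₀ R₁ := by
      intro t ht htp
      have hmem : t ∈ Submodule.span (MvPolynomial (Fin n) R₀) (G p : Set (V a n R₀)) := (hG p).ge ⟨ht, htp⟩
      have hle : Submodule.span (MvPolynomial (Fin n) R₁) (mapV (algebraMap R₀ R₁) '' (G p : Set (V a n R₀))) ≤
          (((p.map (algebraMap R₀ R₁)).map C : Ideal (MvPolynomial (Fin n) R₁)) • KK K₀ R₁).comap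
            (LinearMap.lsmul (MvPolynomial (Fin n) R₁) (V a n R₁) g₁) := by
        rw [Submodule.span_le]
        rintro _ ⟨t, ht, rfl⟩
        exact hW (p, t) (Finset.mem_biUnion.2 ⟨(p, f), hpf, Finset.mem_image_of_mem _ ht⟩)
      exact hle (mapV_mem_span (algebraMap R₀ R₁) hmem)
    obtain ⟨s, hs, hsx⟩ := exists_smul_mem K₀ (hS _ hpf) g₁ hT J hx hxJ P hpP hfP hgP
    exact hs (hcP hsx)
  obtain ⟨m, hm⟩ := hgc
  refine ⟨g₁ ^ m, ?_, hm⟩
  show MvPolynomial.map R₁.val.toRingHom (g₁ ^ m) ∉ Q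
  rw [map_pow]
  exact fun hQ => hg₁ (Ideal.IsPrime.mem_of_pow_mem ‹_› m hQ)

section ring

variable {R S : Type u} [CommRing R] [CommRing S] [Algebra R S] (f : MvPolynomial (Fin n) R →ₐ[R] S)

/-- The relations of a presentation. -/
noncomputable def rel : Submodule (MvPolynomial (Fin n) R) (V 1 n R) :=
  Submodule.comap (LinearMap.proj (0 : Fin 1)) (RingHom.ker f)

/-- The base change of a presentation. -/
noncomputable def pres (R' : Type u) [CommRing R'] [Algebra R R'] : MvPolynomial (Fin n) R' →ₐ[R'] R' ⊗[R] S :=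
  (Algebra.TensorProduct.map (AlgHom.id R' R') f).comp
    (MvPolynomial.algebraTensorAlgEquiv (σ := Fin n) R R').symm.toAlgHom

theorem pres_map (R' : Type u) [CommRing R'] [Algebra R R'] (p : MvPolynomial (Fin n) R) :
    pres f R' (MvPolynomial.map (algebraMap R R') p) = (1 : R') ⊗ₜ[R] f p := by
  have : (MvPolynomial.algebraTensorAlgEquiv R R').symm (MvPolynomial.map (algebraMap R R') p) =
      (1 : R') ⊗ₜ[R] p := by
    rw [AlgEquiv.symm_apply_eq, MvPolynomial.algebraTensorAlgEquiv_tmul, one_smul]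
  simp [pres, this]

theorem pres_natural {R₁ R₂ : Type u} [CommRing R₁] [CommRing R₂] [Algebra R R₁] [Algebra R R₂]
    (φ : R₁ →ₐ[R] R₂) (p : MvPolynomial (Fin n) R₁) :
    pres f R₂ (MvPolynomial.map φ.toRingHom p) =
      Algebra.TensorProduct.map φ (AlgHom.id R S) (pres f R₁ p) := by
  induction p using MvPolynomial.induction_on with
  | C a => simp
  | add p q hp hq => simp only [map_add, hp, hq]
  | mul_X p i hp =>
    simp only [map_mul, hp, MvPolynomial.map_X]
    congr 1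
    rw [show (X i : MvPolynomial (Fin n) R₂) = MvPolynomial.map (algebraMap R R₂) (X i) from (map_X _ i).symm,
      show (X i : MvPolynomial (Fin n) R₁) = MvPolynomial.map (algebraMap R R₁) (X i) from (map_X _ i).symm,
      pres_map, pres_map, Algebra.TensorProduct.map_tmul, map_one, AlgHom.id_apply]

theorem pres_surjective (hf : Function.Surjective f) (R' : Type u) [CommRing R'] [Algebra R R'] :
    Function.Surjective (pres f R') := by
  have h : Function.Surjective (Algebra.TensorProduct.map (AlgHom.id R' R') f) := fun t => by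
    induction t using TensorProduct.induction_on with
    | zero => exact ⟨0, map_zero _⟩
    | tmul r s =>
      obtain ⟨p, rfl⟩ := hf s
      exact ⟨r ⊗ₜ[R] p, Algebra.TensorProduct.map_tmul _ _ _ _⟩
    | add x y hx hy =>
      obtain ⟨x', rfl⟩ := hx; obtain ⟨y', rfl⟩ := hy
      exact ⟨x' + y', map_add _ _ _⟩
  intro y
  obtain ⟨t, rfl⟩ := h y
  exact ⟨MvPolynomial.algebraTensorAlgEquiv R R' t, by simp [pres]⟩

/-- Flatness at a prime, in terms of the presentation. -/
theorem flatAt_iff_ptFlat (hf : Function.Surjective f) {R' : Type u} [CommRing R'] [Algebra R R']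
    (Q : Ideal (R' ⊗[R] S)) [Q.IsPrime] :
    FlatAt R' Q ↔ PtFlat (rel f) R' (Q.comap (pres f R')).primeCompl := by
  letI := (pres f R').toRingHom.toAlgebra
  haveI : IsScalarTower R' (MvPolynomial (Fin n) R') (R' ⊗[R] S) :=
    IsScalarTower.of_algebraMap_eq fun x => ((pres f R').commutes x).symm
  let π : V 1 n R' →ₗ[MvPolynomial (Fin n) R'] R' ⊗[R] S :=
    (Algebra.linearMap (MvPolynomial (Fin n) R') (R' ⊗[R] S)) ∘ₗ LinearMap.proj (0 : Fin 1)
  have hπ : Function.Surjective π := fun y => by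
    obtain ⟨p, hp⟩ := pres_surjective f hf R' y
    exact ⟨fun _ => p, hp⟩
  have hker : LinearMap.ker π = KK (rel f) R' := by
    refine le_antisymm (fun v hv => ?_) (Submodule.span_le.2 ?_)
    · have hv0 : (MvPolynomial.algebraTensorAlgEquiv R R').symm (v 0) ∈
          RingHom.ker (Algebra.TensorProduct.map (AlgHom.id R R') f) := hv
      rw [Algebra.TensorProduct.lTensor_ker f hf] at hv0
      have key : (RingHom.ker f).map (Algebra.TensorProduct.includeRight : MvPolynomial (Fin n) R →ₐ[R]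
          R' ⊗[R] MvPolynomial (Fin n) R) ≤ Ideal.comap (MvPolynomial.algebraTensorAlgEquiv (σ := Fin n) R R')
            ((KK (rel f) R').comap (LinearMap.single (MvPolynomial (Fin n) R') (fun _ : Fin 1 => MvPolynomial (Fin n) R') (0 : Fin 1))) := by
        refine Ideal.map_le_iff_le_comap.2 fun p hp => ?_
        show Pi.single (0 : Fin 1) (MvPolynomial.algebraTensorAlgEquiv R R' ((1 : R') ⊗ₜ[R] p)) ∈ KK (rel f) R'
        rw [MvPolynomial.algebraTensorAlgEquiv_tmul, one_smul]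
        refine Submodule.subset_span ⟨fun _ => p, hp, funext fun i => ?_⟩
        rw [Subsingleton.elim i 0, mapV_apply, Pi.single_eq_same]
      have h1 := key hv0
      simp only [Ideal.mem_comap, Submodule.mem_comap] at h1
      have h2 : Pi.single (0 : Fin 1) (v 0) ∈ KK (rel f) R' := by simpa using h1
      have : v = Pi.single (0 : Fin 1) (v 0) := funext fun i => by rw [Subsingleton.elim i 0, Pi.single_eq_same]
      rwa [this]
    · rintro _ ⟨w, hw, rfl⟩
      show pres f R' (MvPolynomial.map (algebraMap R R') (w 0)) = 0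
      rw [pres_map, show f (w 0) = 0 from hw, tmul_zero]
  have hsmul : ∀ (J : Ideal R') (p : MvPolynomial (Fin n) R') (y : (R' ⊗[R] S) ⊗[R'] J),
      pres f R' p • y = p • y := by
    intro J p y
    induction y using TensorProduct.induction_on with
    | zero => simp
    | tmul m j => rw [smul_tmul', smul_tmul']; rfl
    | add y z hy hz => rw [smul_add, smul_add, hy, hz]
  rw [← flatAt_iff_localizedModule, flat_localized_iff Q.primeCompl (LocalizedModule.mkLinearMap Q.primeCompl _),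
    ptFlat_iff (rel f) (Q.comap (pres f R')).primeCompl π hπ hker]
  refine forall₂_congr fun J y => imp_congr_right fun _ => ⟨?_, ?_⟩
  · rintro ⟨s, hs, hsy⟩
    obtain ⟨p, rfl⟩ := pres_surjective f hf R' s
    exact ⟨p, hs, (hsmul J p y) ▸ hsy⟩
  · rintro ⟨p, hp, hpy⟩
    exact ⟨pres f R' p, hp, (hsmul J p y).trans hpy⟩

end ring

/-- Flatness at a prime of a base change descends to a finitely generated subring of the base. -/
theorem exists_fg_flatAt {R S W : Type u} [CommRing R] [IsNoetherianRing R] [CommRing S] [Algebra R S]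
    [Algebra.FinitePresentation R S] [CommRing W] [Algebra R W] (Q : Ideal (W ⊗[R] S)) [Q.IsPrime]
    (h : FlatAt W Q) :
    ∃ C : Subalgebra R W, C.FG ∧
      ∀ (P : Ideal (C ⊗[R] S)) [P.IsPrime],
        P = Q.comap (Algebra.TensorProduct.map C.val (AlgHom.id R S)) → FlatAt C P := by
  obtain ⟨n, f, hf, -⟩ := Algebra.FinitePresentation.out (R := R) (A := S)
  obtain ⟨C, hC, hflat⟩ := exists_fg_ptFlat (rel f) (Q.comap (pres f W)) ((flatAt_iff_ptFlat f hf Q).1 h)
  refine ⟨C, hC, fun P _ hP => (flatAt_iff_ptFlat f hf P).2 (hflat.mono _ (le_of_eq ?_))⟩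
  ext p
  show pres f W (MvPolynomial.map C.val.toRingHom p) ∉ Q ↔ pres f C p ∉ P
  rw [pres_natural, hP]
  rfl

end Groth.Agent.FlatUnib5
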