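import Groth.Agent.FlatUnib5.Etale
import Groth.Agent.FlatUnib5.Descent
import Groth.Agent.NormCurve.Nagata
import Groth.Agent.S2650
import Groth.Agent.S2651
import Groth.Agent.S2653
import Groth.Agent.S2654
import Groth.Agent.S0600

/-!
# Flatness from one point over an arbitrary normal local domain
-/

set_option autoImplicit false
set_option synthInstance.maxHeartbeats 400000
set_option maxHeartbeats 1000000
set_option backward.isDefEq.respectTransparency.types false
set_option backward.isDefEq.respectTransparency false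

universe u

open TensorProduct IsLocalRing

namespace Groth.Agent.FlatUnib5

/-- The ring of integers, in universe `u`, is excellent. -/
theorem isExcellent_ulift_int : EGA4.IsExcellent (ULift.{u} ℤ) := by
  haveI : IsPrincipalIdealRing (ULift.{u} ℤ) :=
    IsPrincipalIdealRing.of_surjective (ULift.ringEquiv (R := ℤ)).symm.toRingHom (ULift.ringEquiv (R := ℤ)).symm.surjective
  haveI : IsDomain (ULift.{u} ℤ) := (ULift.ringEquiv (R := ℤ)).toMulEquiv.isDomain ℤ
  haveI : CharZero (ULift.{u} ℤ) := ⟨fun a b h => by simpa using congrArg ULift.down h⟩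
  exact S2653.result _

/-- Excellent local rings have geometrically normal formal fibres. -/
theorem hasGeomNormalFormalFibres_of_isExcellent (R : Type u) [CommRing R] [IsLocalRing R] (hR : EGA4.IsExcellent R) :
    EGA4.HasGeomNormalFormalFibres R := by
  haveI : IsNoetherianRing R := hR.1
  haveI := FlatLoc6.isLocalRing_cpl R
  haveI := FlatLoc6.faithfullyFlat_cpl R
  exact (FlatLoc6.isNormalHom_of_isRegularHom R (EGA4.Cpl R) (S0600.result R hR.2.2.1 _)).2

theorem exists_lift_hom {R A K : Type u} [CommRing R] [CommRing A] [Field K] [Algebra A K] [IsFractionRing A K]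
    (g : R →+* K) (h : ∀ x, ∃ y : A, algebraMap A K y = g x) :
    ∃ f : R →+* A, ∀ x, algebraMap A K (f x) = g x := by
  choose f hf using h
  have hi : Function.Injective (algebraMap A K) := IsFractionRing.injective A K
  exact ⟨{ toFun := f
           map_one' := hi (by rw [hf, map_one, map_one])
           map_mul' := fun x y => hi (by rw [hf, map_mul, map_mul, hf, hf])
           map_zero' := hi (by rw [hf, map_zero, map_zero])
           map_add' := fun x y => hi (by rw [hf, map_add, map_add, hf, hf]) }, hf⟩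

/-- A normal excellent domain between a finitely generated subring and a normal domain. -/
theorem exists_normal_ring {A₀ A : Type u} [CommRing A₀] [IsDomain A₀] [Algebra.FiniteType ℤ A₀] [CommRing A]
    [IsDomain A] [IsIntegrallyClosed A] [Algebra A₀ A] (hinj : Function.Injective (algebraMap A₀ A)) :
    ∃ (A₁ : Type u) (_ : CommRing A₁) (_ : IsDomain A₁) (_ : IsIntegrallyClosed A₁) (_ : Algebra A₀ A₁)
      (g : A₁ →+* A), EGA4.IsExcellent A₁ ∧ Function.Injective g ∧
        ∀ a, g (algebraMap A₀ A₁ a) = algebraMap A₀ A a := by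
  letI : Algebra (ULift.{u} ℤ) A₀ := ((algebraMap ℤ A₀).comp (ULift.ringEquiv (R := ℤ)).toRingHom).toAlgebra
  haveI : Algebra.FiniteType (ULift.{u} ℤ) A₀ := by
    obtain ⟨s, hs⟩ := Algebra.FiniteType.out (R := ℤ) (A := A₀)
    refine ⟨s, eq_top_iff.2 fun x hx0 => ?_⟩
    clear hx0
    have hx : x ∈ Algebra.adjoin ℤ (s : Set A₀) := hs.ge trivial
    induction hx using Algebra.adjoin_induction with
    | mem x hx => exact Algebra.subset_adjoin hx
    | algebraMap r => rw [algebraMap_int_eq]; exact intCast_mem _ r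
    | add a b _ _ ha hb => exact add_mem ha hb
    | mul a b _ _ ha hb => exact mul_mem ha hb
  have h₀ : EGA4.IsExcellent A₀ := S2651.result _ isExcellent_ulift_int A₀
  let K₀ := FractionRing A₀
  let A₁ := integralClosure A₀ K₀
  haveI : Module.Finite A₀ A₁ :=
    NormCurve.finite_integralClosure_of_nagata (S2654.result A₀ ⟨h₀.1, h₀.2.2.1, h₀.2.2.2⟩) K₀
  have h₁ : EGA4.IsExcellent A₁ := S2651.result A₀ h₀ A₁
  haveI : IsIntegrallyClosed A₁ := integralClosure.isIntegrallyClosedOfFiniteExtension K₀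
  let K := FractionRing A
  let g₀ : A₀ →+* K := (algebraMap A K).comp (algebraMap A₀ A)
  have hg₀ : Function.Injective g₀ := (IsFractionRing.injective A K).comp hinj
  let gK : K₀ →+* K := IsFractionRing.lift hg₀
  let g : A₁ →+* K := gK.comp (algebraMap A₁ K₀)
  have hcomp : ∀ a, gK (algebraMap A₀ K₀ a) = algebraMap A K (algebraMap A₀ A a) := fun a =>
    IsFractionRing.lift_algebraMap hg₀ a
  have hmem : ∀ x : A₁, ∃ y : A, algebraMap A K y = g x := fun x => by
    have hx : IsIntegral A₀ (x : K₀) := (mem_integralClosure_iff A₀ K₀).1 x.2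
    refine (IsIntegrallyClosed.isIntegral_iff (R := A) (K := K)).1 ?_
    exact IsIntegral.map_of_comp_eq (algebraMap A₀ A) gK (RingHom.ext fun a => (hcomp a).symm) hx
  obtain ⟨h₁', hh⟩ := exists_lift_hom g hmem
  have hgi : Function.Injective g := gK.injective.comp (FaithfulSMul.algebraMap_injective A₁ K₀)
  have hgA : ∀ a, g (algebraMap A₀ A₁ a) = algebraMap A K (algebraMap A₀ A a) := fun a => by
    rw [RingHom.comp_apply, ← IsScalarTower.algebraMap_apply, hcomp]
  have hh₁ : Function.Injective h₁' := fun x y e => hgi (by rw [← hh, ← hh, e])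
  have hh₁A : ∀ a, h₁' (algebraMap A₀ A₁ a) = algebraMap A₀ A a := fun a =>
    IsFractionRing.injective A K ((hh _).trans (hgA a))
  exact ⟨A₁, inferInstance, inferInstance, inferInstance, inferInstance, h₁', h₁, hh₁, hh₁A⟩

/-- A normal local excellent domain between a finitely generated subring and a normal local domain. -/
theorem exists_normal_stage {A₀ A : Type u} [CommRing A₀] [IsDomain A₀] [Algebra.FiniteType ℤ A₀] [CommRing A]
    [IsLocalRing A] [IsDomain A] [IsIntegrallyClosed A] [Algebra A₀ A] (hinj : Function.Injective (algebraMap A₀ A)) :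
    ∃ (A₂ : Type u) (_ : CommRing A₂) (_ : IsNoetherianRing A₂) (_ : IsLocalRing A₂) (_ : IsDomain A₂)
      (_ : IsIntegrallyClosed A₂) (_ : Algebra A₀ A₂) (_ : Algebra A₂ A) (_ : IsScalarTower A₀ A₂ A),
      EGA4.HasGeomNormalFormalFibres A₂ ∧ IsLocalHom (algebraMap A₂ A) ∧ Function.Injective (algebraMap A₂ A) := by
  obtain ⟨A₁, _, _, _, _, h₁', h₁, hh₁, hh₁A⟩ := exists_normal_ring (A₀ := A₀) (A := A) hinj
  let p : Ideal A₁ := (maximalIdeal A).comap h₁'
  let A₂ := Localization.AtPrime p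
  let h₂ : A₂ →+* A := IsLocalization.lift (M := p.primeCompl) (g := h₁') fun s => notMem_maximalIdeal.1 s.2
  letI : Algebra A₂ A := h₂.toAlgebra
  haveI : IsScalarTower A₀ A₂ A := IsScalarTower.of_algebraMap_eq fun a => by
    show _ = h₂ (algebraMap A₀ A₂ a)
    rw [IsScalarTower.algebraMap_apply A₀ A₁ A₂, IsLocalization.lift_eq, hh₁A]
  haveI : IsNoetherianRing A₂ := IsLocalization.isNoetherianRing p.primeCompl A₂ h₁.1
  haveI : IsDomain A₂ := IsLocalization.isDomain_localization p.primeCompl_le_nonZeroDivisors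
  haveI : IsIntegrallyClosed A₂ := isIntegrallyClosed_of_isLocalization _ p.primeCompl p.primeCompl_le_nonZeroDivisors
  refine ⟨A₂, inferInstance, inferInstance, inferInstance, inferInstance, inferInstance, inferInstance, inferInstance,
    inferInstance, hasGeomNormalFormalFibres_of_isExcellent A₂ (S2650.result A₁ h₁ p.primeCompl), ⟨fun y hy => ?_⟩, ?_⟩
  · obtain ⟨a, s, rfl⟩ := IsLocalization.exists_mk'_eq p.primeCompl y
    refine (IsLocalization.AtPrime.isUnit_mk'_iff A₂ p a s).2 fun ha => ?_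
    have h1 : h₂ (IsLocalization.mk' A₂ a s) * h₁' s = h₁' a := by
      rw [← IsLocalization.lift_eq (M := p.primeCompl) (g := h₁') (S := A₂) (fun s => notMem_maximalIdeal.1 s.2),
        ← map_mul, IsLocalization.mk'_spec, IsLocalization.lift_eq]
    exact ha (h1 ▸ hy.mul (notMem_maximalIdeal.1 s.2))
  · exact IsLocalization.lift_injective_iff _ |>.2 fun x y => by
      rw [(IsLocalization.injective A₂ p.primeCompl_le_nonZeroDivisors).eq_iff, hh₁.eq_iff]

theorem exists_model {R₀ R₁ R B : Type u} [CommRing R₀] [CommRing R₁] [CommRing R] [CommRing B] [Algebra R₀ R₁]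
    [Algebra R₁ R] [Algebra R₀ R] [IsScalarTower R₀ R₁ R] [Algebra R B] (S₀ : Type u) [CommRing S₀] [Algebra R₀ S₀]
    [Algebra.FinitePresentation R₀ S₀] (e : R ⊗[R₀] S₀ ≃ₐ[R] B) :
    ∃ (S : Type u) (_ : CommRing S) (_ : Algebra R₁ S) (_ : Algebra.FinitePresentation R₁ S),
      Nonempty (R ⊗[R₁] S ≃ₐ[R] B) :=
  ⟨R₁ ⊗[R₀] S₀, inferInstance, inferInstance, inferInstance,
    ⟨(Algebra.TensorProduct.cancelBaseChange R₀ R₁ R R S₀).trans e⟩⟩

/-- **Flatness from one point** over an arbitrary normal local domain. -/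
theorem flatAt_of_integrallyClosed {A B V : Type u} [CommRing A] [IsLocalRing A] [IsDomain A] [IsIntegrallyClosed A]
    [CommRing B] [Algebra A B] [Algebra.FinitePresentation A B] [CommRing V] [IsLocalRing V] [IsDomain V]
    [Algebra A V] [IsLocalHom (algebraMap A V)] (hinj : Function.Injective (algebraMap A V))
    (Q : Ideal (V ⊗[A] B)) [Q.IsPrime] (hQm : Q.comap (algebraMap V (V ⊗[A] B)) = maximalIdeal V)
    (q : Ideal B) [q.IsPrime]
    (hQq : Q.comap (Algebra.TensorProduct.includeRight : B →ₐ[A] V ⊗[A] B).toRingHom = q)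
    (h : FlatAt V Q) : FlatAt A q := by
  let P := Algebra.Presentation.ofFinitePresentation A B
  haveI : IsDomain P.Core := (FaithfulSMul.algebraMap_injective P.Core A).isDomain
  obtain ⟨A₂, _, _, _, _, _, _, _, _, hA₂, hloc, hinj₂⟩ :=
    exists_normal_stage (A₀ := P.Core) (A := A) (FaithfulSMul.algebraMap_injective P.Core A)
  haveI := hloc
  obtain ⟨S₂, _, _, _, ⟨e₂⟩⟩ := exists_model (R₀ := P.Core) (R₁ := A₂) (R := A)
    (P.ModelOfHasCoeffs P.Core) (P.tensorModelOfHasCoeffsEquiv P.Core)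
  letI : Algebra A₂ V := ((algebraMap A V).comp (algebraMap A₂ A)).toAlgebra
  haveI : IsScalarTower A₂ A V := IsScalarTower.of_algebraMap_eq fun _ => rfl
  haveI : IsLocalHom (algebraMap A₂ V) := RingHom.isLocalHom_comp (algebraMap A V) (algebraMap A₂ A)
  let ψ : V ⊗[A₂] S₂ ≃ₐ[V] V ⊗[A] B := (Algebra.TensorProduct.cancelBaseChange A₂ A V V S₂).symm.trans
    (Algebra.TensorProduct.congr (AlgEquiv.refl (R := V) (A₁ := V)) e₂)
  let Q₂ : Ideal (V ⊗[A₂] S₂) := Q.comap ψ
  have hQ₂ : FlatAt V Q₂ := (flatAt_equiv ψ Q).2 h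
  obtain ⟨C, hCfg, hC⟩ := exists_fg_flatAt Q₂ hQ₂
  let fC : C ⊗[A₂] S₂ →ₐ[A₂] V ⊗[A₂] S₂ := Algebra.TensorProduct.map C.val (AlgHom.id A₂ S₂)
  let P₂ : Ideal (C ⊗[A₂] S₂) := Q₂.comap fC
  have hP₂ : FlatAt C P₂ := hC P₂ rfl
  let p : Ideal C := (maximalIdeal V).comap C.val
  let Cm := Localization.AtPrime p
  let g : Cm →ₐ[A₂] V := IsLocalization.liftAlgHom (M := p.primeCompl) (f := C.val)
    fun s => notMem_maximalIdeal.1 s.2
  have hg : ∀ c, g (algebraMap C Cm c) = C.val c := fun c => IsLocalization.lift_eq _ c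
  haveI : Algebra.FiniteType A₂ C := (Subalgebra.fg_iff_finiteType C).1 hCfg
  haveI : IsNoetherianRing C := Algebra.FiniteType.isNoetherianRing A₂ C
  haveI : IsNoetherianRing Cm := IsLocalization.isNoetherianRing p.primeCompl Cm inferInstance
  haveI : IsDomain Cm := IsLocalization.isDomain_localization p.primeCompl_le_nonZeroDivisors
  haveI : Algebra.EssFiniteType A₂ Cm := Algebra.EssFiniteType.comp A₂ C Cm
  have hgm : ∀ y, g y ∈ maximalIdeal V ↔ y ∈ maximalIdeal Cm := fun y => by
    obtain ⟨⟨c, s⟩, hs⟩ := IsLocalization.surj p.primeCompl y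
    have hu := IsLocalization.map_units Cm s
    rw [← Ideal.mul_unit_mem_iff_mem (maximalIdeal Cm) hu, hs, IsLocalization.AtPrime.to_map_mem_maximal_iff Cm p c,
      ← Ideal.mul_unit_mem_iff_mem (maximalIdeal V) (hu.map g), ← map_mul, hs, hg]
    exact Iff.rfl
  haveI : IsLocalHom (algebraMap A₂ Cm) := ⟨fun a ha => by
    have := ha.map g
    rw [AlgHom.commutes] at this
    exact (isUnit_map_iff _ _).1 this⟩
  have hinjV : Function.Injective (algebraMap A₂ V) := hinj.comp hinj₂
  have hinjm : Function.Injective (algebraMap A₂ Cm) := fun a b hab => hinjV (by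
    rw [← g.commutes, ← g.commutes, hab])
  let Qm : Ideal (Cm ⊗[A₂] S₂) := Q₂.comap (Algebra.TensorProduct.map g (AlgHom.id A₂ S₂))
  haveI : Qm.IsPrime := Ideal.IsPrime.comap _
  have hQm' : FlatAt (B := Cm ⊗[A₂] S₂) Cm Qm := by
    refine flatAt_tensor_tower Qm P₂ ?_ hP₂
    ext t
    have key : Algebra.TensorProduct.map g (AlgHom.id A₂ S₂)
        (Algebra.TensorProduct.map (IsScalarTower.toAlgHom A₂ C Cm) (AlgHom.id A₂ S₂) t) = fC t := by
      induction t using TensorProduct.induction_on with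
      | zero => simp
      | tmul c s =>
        simp only [fC, Algebra.TensorProduct.map_tmul, AlgHom.id_apply, IsScalarTower.coe_toAlgHom', hg]
      | add x y hx hy => simp only [map_add, hx, hy]
    exact iff_of_eq (congrArg (· ∈ Q₂) key)
  have hψV : ∀ v : V, ψ (v ⊗ₜ[A₂] (1 : S₂)) = v ⊗ₜ[A] (1 : B) := fun v => ψ.commutes v
  have hQmm : Qm.comap (algebraMap Cm (Cm ⊗[A₂] S₂)) = maximalIdeal Cm := Ideal.ext fun y => by
    refine Iff.trans ?_ (hgm y)
    refine Iff.trans ?_ (SetLike.ext_iff.1 hQm (g y))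
    show ψ (g y ⊗ₜ[A₂] (1 : S₂)) ∈ Q ↔ g y ⊗ₜ[A] (1 : B) ∈ Q
    rw [hψV]
  let q₂ : Ideal S₂ := Qm.comap (Algebra.TensorProduct.includeRight : S₂ →ₐ[A₂] Cm ⊗[A₂] S₂).toRingHom
  haveI : q₂.IsPrime := Ideal.IsPrime.comap _
  have hflat₂ : FlatAt A₂ q₂ := flatAt_of_normal hA₂ hinjm Qm hQmm q₂ rfl hQm'
  have hqA : (q.comap e₂).comap (Algebra.TensorProduct.includeRight : S₂ →ₐ[A₂] A ⊗[A₂] S₂).toRingHom = q₂ := by
    ext s
    rw [← hQq]
    show (1 : V) ⊗ₜ[A] e₂ ((1 : A) ⊗ₜ[A₂] s) ∈ Q ↔ ψ (g 1 ⊗ₜ[A₂] s) ∈ Q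
    rw [map_one]
    exact iff_of_eq (congrArg (· ∈ Q) (by
      simp [ψ]))
  exact (flatAt_equiv e₂ q).1 (flatAt_tensor (q.comap e₂) q₂ hqA hflat₂)

end Groth.Agent.FlatUnib5
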