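import Groth.Agent.FlatUnib5.Main

/-!
# The two descent theorems, on rings
-/

set_option autoImplicit false
set_option synthInstance.maxHeartbeats 400000
set_option maxHeartbeats 1000000
set_option backward.isDefEq.respectTransparency false
set_option backward.isDefEq.respectTransparency.types false

universe u

open TensorProduct IsLocalRing

namespace Groth.Agent.FlatUnib5

attribute [local instance] Algebra.TensorProduct.rightAlgebra

section setup

variable {A A' : Type u} [CommRing A] [IsDomain A] [IsLocalRing A] [CommRing A'] [IsLocalRing A'] [Algebra A A']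
  [IsLocalHom (algebraMap A A')] {K : Type u} [Field K] [Algebra A K] [IsFractionRing A K]
  [IsLocalRing (integralClosure A K)]

/-- Primes of the normalised algebra over a prime over the closed point meet the maximal ideal. -/
theorem comap_norm_eq {B : Type u} [CommRing B] [Algebra A B] (q : Ideal B) (hq : maximalIdeal A ≤ q.comap (algebraMap A B))
    (Q₀ : Ideal (integralClosure A K ⊗[A] B)) [Q₀.IsPrime]
    (hQ₀ : Q₀.comap (Algebra.TensorProduct.includeRight : B →ₐ[A] integralClosure A K ⊗[A] B).toRingHom = q) :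
    Q₀.comap (algebraMap (integralClosure A K) (integralClosure A K ⊗[A] B)) = maximalIdeal (integralClosure A K) := by
  let P := Q₀.comap (algebraMap (integralClosure A K) (integralClosure A K ⊗[A] B))
  haveI : P.IsPrime := Ideal.IsPrime.comap _
  have hP : maximalIdeal A ≤ P.comap (algebraMap A (integralClosure A K)) := fun a ha => by
    have h1 : (Algebra.TensorProduct.includeRight : B →ₐ[A] integralClosure A K ⊗[A] B) (algebraMap A B a) ∈ Q₀ :=
      hQ₀.ge (hq ha)
    rw [AlgHom.commutes] at h1
    show algebraMap (integralClosure A K) _ (algebraMap A _ a) ∈ Q₀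
    rwa [← IsScalarTower.algebraMap_apply]
  have hmax : (P.comap (algebraMap A (integralClosure A K))).IsMaximal := by
    rw [← (maximalIdeal.isMaximal A).eq_of_le (Ideal.IsPrime.ne_top (Ideal.IsPrime.comap _)) hP]
    exact maximalIdeal.isMaximal A
  exact eq_maximalIdeal (Ideal.isMaximal_of_isIntegral_of_isMaximal_comap P hmax)

/-- A valuation ring over the given extension and over the normalisation. -/
theorem exists_setup (hinj : Function.Injective (algebraMap A A')) :
    ∃ (V : Type u) (_ : CommRing V) (_ : IsLocalRing V) (_ : IsDomain V) (_ : Algebra A V) (v : A' →ₐ[A] V)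
      (w : integralClosure A K →ₐ[A] V), IsLocalHom v.toRingHom ∧ IsLocalHom w.toRingHom ∧ Function.Injective w := by
  obtain ⟨L, _, V, v, hv, hvi⟩ := exists_valuation_dominating hinj
  haveI := hv
  letI : Algebra A V := (v.comp (algebraMap A A')).toAlgebra
  haveI : IsLocalHom (algebraMap A V) := RingHom.isLocalHom_comp v (algebraMap A A')
  obtain ⟨w, hw⟩ := exists_hom_to_valuation (K := K) V hvi
  refine ⟨V, inferInstance, inferInstance, inferInstance, inferInstance, { v with commutes' := fun _ => rfl }, w, hv,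
    ⟨fun x hx => ?_⟩, hw⟩
  let P := (maximalIdeal V).comap w.toRingHom
  haveI : P.IsPrime := Ideal.IsPrime.comap _
  have hP : maximalIdeal A ≤ P.comap (algebraMap A (integralClosure A K)) := fun a ha => by
    show w (algebraMap A _ a) ∈ maximalIdeal V
    rw [w.commutes]
    exact map_nonunit _ a ha
  have hmax : (P.comap (algebraMap A (integralClosure A K))).IsMaximal := by
    rw [← (maximalIdeal.isMaximal A).eq_of_le (Ideal.IsPrime.ne_top (Ideal.IsPrime.comap _)) hP]
    exact maximalIdeal.isMaximal A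
  by_contra hn
  exact ((eq_maximalIdeal (Ideal.isMaximal_of_isIntegral_of_isMaximal_comap P hmax)).ge hn : x ∈ P) hx

end setup

theorem exists_amalg (k K κ : Type u) [Field k] [Field K] [Field κ] [Algebra k K] [Algebra k κ] :
    ∃ (L : Type u) (_ : Field L) (f : K →+* L) (g : κ →+* L), ∀ x, f (algebraMap k K x) = g (algebraMap k κ x) := by
  obtain ⟨M, hM⟩ := Ideal.exists_maximal (K ⊗[k] κ)
  refine ⟨(K ⊗[k] κ) ⧸ M, Ideal.Quotient.field M,
    (Ideal.Quotient.mk M).comp Algebra.TensorProduct.includeLeftRingHom,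
    (Ideal.Quotient.mk M).comp (Algebra.TensorProduct.includeRight : κ →ₐ[k] K ⊗[k] κ).toRingHom, fun x => ?_⟩
  show Ideal.Quotient.mk M (algebraMap k K x ⊗ₜ[k] (1 : κ)) = Ideal.Quotient.mk M ((1 : K) ⊗ₜ[k] algebraMap k κ x)
  rw [Algebra.algebraMap_eq_smul_one, Algebra.algebraMap_eq_smul_one, TensorProduct.smul_tmul]

/-- Two maps to fields from the closed fibres combine to a point over both. -/
theorem exists_point {A C V B : Type u} [CommRing A] [CommRing C] [IsLocalRing C] [CommRing V] [IsLocalRing V]
    [CommRing B] [Algebra A C] [Algebra A V] [Algebra C V] [IsScalarTower A C V] [IsLocalHom (algebraMap C V)]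
    [Algebra A B] (Q : Ideal (C ⊗[A] B)) [Q.IsPrime] (hQ : Q.comap (algebraMap C (C ⊗[A] B)) = maximalIdeal C) :
    ∃ (Q₁ : Ideal (V ⊗[A] B)) (_ : Q₁.IsPrime), Q₁.comap (algebraMap V (V ⊗[A] B)) = maximalIdeal V ∧
      Q₁.comap (Algebra.TensorProduct.map (IsScalarTower.toAlgHom A C V) (AlgHom.id A B)).toRingHom = Q := by
  let kC := ResidueField C
  let kV := ResidueField V
  let κ := Q.ResidueField
  letI : Algebra kC kV := (ResidueField.map (algebraMap C V)).toAlgebra
  let iC : kC →+* κ := Ideal.Quotient.lift (maximalIdeal C)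
    ((algebraMap (C ⊗[A] B) κ).comp (algebraMap C (C ⊗[A] B))) fun c hc =>
      Ideal.algebraMap_residueField_eq_zero.2 (hQ.ge hc)
  letI : Algebra kC κ := iC.toAlgebra
  obtain ⟨L, _, fk, r, hcomm⟩ := exists_amalg kC kV κ
  let fV : V →+* L := fk.comp (residue V)
  letI : Algebra A L := (fV.comp (algebraMap A V)).toAlgebra
  have hr : ∀ c : C, r (algebraMap (C ⊗[A] B) κ (algebraMap C (C ⊗[A] B) c)) = fV (algebraMap C V c) := fun c => by
    exact (hcomm (residue C c)).symm
  let fB : B →ₐ[A] L :=
    { r.comp ((algebraMap (C ⊗[A] B) κ).comp (Algebra.TensorProduct.includeRight : B →ₐ[A] C ⊗[A] B).toRingHom) with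
      commutes' := fun a => by
        show r (algebraMap (C ⊗[A] B) κ ((Algebra.TensorProduct.includeRight : B →ₐ[A] C ⊗[A] B) (algebraMap A B a))) =
          fV (algebraMap A V a)
        rw [AlgHom.commutes, IsScalarTower.algebraMap_apply A C (C ⊗[A] B), hr, ← IsScalarTower.algebraMap_apply] }
  let gV : V →ₐ[A] L := { fV with commutes' := fun _ => rfl }
  let χ : V ⊗[A] B →ₐ[A] L := Algebra.TensorProduct.lift gV fB (fun _ _ => Commute.all _ _)
  refine ⟨RingHom.ker χ, RingHom.ker_isPrime _, Ideal.ext fun y => ?_, Ideal.ext fun t => ?_⟩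
  · show χ (y ⊗ₜ[A] (1 : B)) = 0 ↔ _
    rw [Algebra.TensorProduct.lift_tmul, map_one, mul_one]
    show fk (residue V y) = 0 ↔ _
    rw [map_eq_zero, residue_eq_zero_iff]
  · have key : χ (Algebra.TensorProduct.map (IsScalarTower.toAlgHom A C V) (AlgHom.id A B) t) =
        r (algebraMap (C ⊗[A] B) κ t) := by
      induction t using TensorProduct.induction_on with
      | zero => simp
      | tmul c b =>
        rw [Algebra.TensorProduct.map_tmul, Algebra.TensorProduct.lift_tmul]
        show fV (algebraMap C V c) * fB b = _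
        rw [← hr]
        show r _ * r (algebraMap (C ⊗[A] B) κ ((1 : C) ⊗ₜ[A] b)) = _
        rw [← map_mul, ← map_mul, Algebra.TensorProduct.algebraMap_apply, Algebra.algebraMap_self, RingHom.id_apply,
          Algebra.TensorProduct.tmul_mul_tmul, mul_one, one_mul]
      | add x y hx hy => simp only [map_add, hx, hy]
    show χ _ = 0 ↔ _
    refine (Eq.congr_left key).trans ?_
    rw [map_eq_zero]
    exact Ideal.algebraMap_residueField_eq_zero

section main

variable {A A' B : Type u} [CommRing A] [IsDomain A] [IsLocalRing A] [CommRing A'] [IsLocalRing A'] [Algebra A A']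
  [IsLocalHom (algebraMap A A')] [CommRing B] [Algebra A B] [Algebra.FinitePresentation A B] (q : Ideal B) [q.IsPrime]

/-- **Descent over a unibranch local domain**: flatness at all points over the closed point. -/
theorem flatAt_of_forall_unibranch (hA : CAlg2.IsUnibranch A) (hinj : Function.Injective (algebraMap A A'))
    (hq : maximalIdeal A ≤ q.comap (algebraMap A B))
    (h : ∀ (Q : Ideal (A' ⊗[A] B)) [Q.IsPrime],
      Q.comap (Algebra.TensorProduct.includeRight : B →ₐ[A] A' ⊗[A] B).toRingHom = q →
      Q.comap (algebraMap A' (A' ⊗[A] B)) = maximalIdeal A' → FlatAt A' Q) : FlatAt A q := by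
  obtain ⟨K, _, _, _, _, -⟩ := exists_norm hA
  let N := integralClosure A K
  haveI : IsDomain N := inferInstance
  haveI : IsIntegrallyClosed N := integralClosure.isIntegrallyClosedOfFiniteExtension K
  obtain ⟨V, _, _, _, _, v, w, hv, hw, hwi⟩ := exists_setup (A' := A') (K := K) hinj
  letI : Algebra A' V := v.toRingHom.toAlgebra
  letI : Algebra N V := w.toRingHom.toAlgebra
  haveI : IsScalarTower A A' V := IsScalarTower.of_algebraMap_eq fun a => (v.commutes a).symm
  haveI : IsScalarTower A N V := IsScalarTower.of_algebraMap_eq fun a => (w.commutes a).symm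
  haveI : IsLocalHom (algebraMap N V) := hw
  haveI : IsLocalHom (algebraMap A' V) := hv
  refine flatAt_of_integral (A' := N) (FaithfulSMul.algebraMap_injective A N) q fun Q₀ _ hQ₀ => ?_
  obtain ⟨Q₁, _, hm, hQ₁⟩ := exists_point (V := V) Q₀ (comap_norm_eq q hq Q₀ hQ₀)
  let Q' : Ideal (A' ⊗[A] B) :=
    Q₁.comap (Algebra.TensorProduct.map (IsScalarTower.toAlgHom A A' V) (AlgHom.id A B)).toRingHom
  haveI : Q'.IsPrime := Ideal.IsPrime.comap _
  refine flatAt_norm hwi Q₁ hm Q' rfl (h Q' ?_ ?_) Q₀ hQ₁
  · rw [← hQ₀, ← hQ₁, Ideal.comap_comap, Ideal.comap_comap]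
    congr 1
    ext b
    simp
  · ext x
    refine Iff.trans ?_ ((SetLike.ext_iff.1 hm (algebraMap A' V x)).trans ?_)
    · show Algebra.TensorProduct.map (IsScalarTower.toAlgHom A A' V) (AlgHom.id A B) (x ⊗ₜ[A] (1 : B)) ∈ Q₁ ↔ _
      rw [Algebra.TensorProduct.map_tmul]
      exact Iff.rfl
    · exact ⟨fun h1 h2 => h1 (h2.map _), fun h1 => map_nonunit _ x h1⟩

/-- **Descent over a geometrically unibranch local domain**: flatness at one point over the closed point. -/
theorem flatAt_of_exists_geomUnibranch (hA : CAlg2.IsGeomUnibranch A) (hinj : Function.Injective (algebraMap A A'))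
    (Q : Ideal (A' ⊗[A] B)) [Q.IsPrime] (hQm : Q.comap (algebraMap A' (A' ⊗[A] B)) = maximalIdeal A')
    (hQq : Q.comap (Algebra.TensorProduct.includeRight : B →ₐ[A] A' ⊗[A] B).toRingHom = q)
    (h : FlatAt A' Q) : FlatAt A q := by
  have hq : maximalIdeal A ≤ q.comap (algebraMap A B) := fun a ha => by
    rw [← hQq]
    show (Algebra.TensorProduct.includeRight : B →ₐ[A] A' ⊗[A] B) (algebraMap A B a) ∈ Q
    rw [AlgHom.commutes, IsScalarTower.algebraMap_apply A A' (A' ⊗[A] B)]
    exact hQm.ge (map_nonunit _ a ha)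
  obtain ⟨K, _, _, _, _, hp⟩ := exists_norm hA.1
  let N := integralClosure A K
  haveI : IsDomain N := inferInstance
  haveI : IsIntegrallyClosed N := integralClosure.isIntegrallyClosedOfFiniteExtension K
  obtain ⟨V, _, _, _, _, v, w, hv, hw, hwi⟩ := exists_setup (A' := A') (K := K) hinj
  letI : Algebra A' V := v.toRingHom.toAlgebra
  letI : Algebra N V := w.toRingHom.toAlgebra
  haveI : IsScalarTower A A' V := IsScalarTower.of_algebraMap_eq fun a => (v.commutes a).symm
  haveI : IsScalarTower A N V := IsScalarTower.of_algebraMap_eq fun a => (w.commutes a).symm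
  haveI : IsLocalHom (algebraMap N V) := hw
  haveI : IsLocalHom (algebraMap A' V) := hv
  obtain ⟨Q₁, _, hm, hQ₁⟩ := exists_point (V := V) Q hQm
  let Q₀ : Ideal (N ⊗[A] B) :=
    Q₁.comap (Algebra.TensorProduct.map (IsScalarTower.toAlgHom A N V) (AlgHom.id A B)).toRingHom
  haveI : Q₀.IsPrime := Ideal.IsPrime.comap _
  have h0 : FlatAt N Q₀ := flatAt_norm hwi Q₁ hm Q hQ₁ h Q₀ rfl
  have hq0 : Q₀.comap (Algebra.TensorProduct.includeRight : B →ₐ[A] N ⊗[A] B).toRingHom = q := by
    rw [← hQq, ← hQ₁, Ideal.comap_comap, Ideal.comap_comap]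
    congr 1
    ext b
    simp
  refine flatAt_of_integral (A' := N) (FaithfulSMul.algebraMap_injective A N) q fun Q₂ _ hQ₂ => ?_
  obtain rfl := eq_of_purelyInsep (hp hA) q Q₀ Q₂ (comap_norm_eq q hq Q₀ hq0) (comap_norm_eq q hq Q₂ hQ₂) hq0 hQ₂
  exact h0

end main

end Groth.Agent.FlatUnib5
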