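import Groth.Agent.FlatUnib5.Noeth
import Groth.Agent.Hensel.EtaleResidueExt
import Groth.Agent.Pi1X.NormalEtale
import Groth.Agent.NagataLib.IntClosure
import Groth.Agent.S2641
import Groth.Agent.S2684
import Groth.Agent.S9812
import Groth.Agent.S12420

/-!
# Removing the primary hypothesis over a normal base: a finite étale extension of the base
-/

set_option autoImplicit false
set_option synthInstance.maxHeartbeats 400000
set_option maxHeartbeats 1000000
set_option backward.isDefEq.respectTransparency.types false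

universe u

open TensorProduct IsLocalRing

namespace Groth.Agent.FlatUnib5

attribute [local instance] Algebra.TensorProduct.rightAlgebra

/-- A finite étale local algebra of a normal local domain is a normal local domain. -/
theorem isDomain_isIntegrallyClosed_finEtale {A E : Type u} [CommRing A] [IsDomain A] [IsIntegrallyClosed A]
    [CommRing E] [IsLocalRing E] [Algebra A E] [Module.Finite A E] [Algebra.Etale A E] :
    IsDomain E ∧ IsIntegrallyClosed E := by
  obtain ⟨hd, hic⟩ := Pi1X.isDomain_isIntegrallyClosed_atPrime (A := A) (maximalIdeal E)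
  haveI := hd
  haveI := hic
  let e : E ≃ₐ[E] Localization.AtPrime (maximalIdeal E) := IsLocalization.atUnits E (maximalIdeal E).primeCompl
    (S := Localization.AtPrime (maximalIdeal E)) fun s hs => notMem_maximalIdeal.1 hs
  exact ⟨e.toRingEquiv.toMulEquiv.isDomain (Localization.AtPrime (maximalIdeal E)),
    IsIntegrallyClosed.of_equiv e.symm.toRingEquiv⟩

theorem flatAt_cancel {A E C B : Type u} [CommRing A] [CommRing E] [CommRing C] [CommRing B] [Algebra A E]
    [Algebra A C] [Algebra E C] [IsScalarTower A E C] [Algebra A B] (Q : Ideal (C ⊗[A] B)) [Q.IsPrime]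
    (h : FlatAt C Q) : FlatAt C (Q.comap (Algebra.TensorProduct.cancelBaseChange A E C C B)) :=
  (flatAt_equiv (Algebra.TensorProduct.cancelBaseChange A E C C B) Q).2 h

/-- A finite étale local extension of the base making the residue extension at a prime primary. -/
theorem exists_etale_primary {A B : Type u} [CommRing A] [IsLocalRing A] [CommRing B] [Algebra A B]
    [Algebra.FiniteType A B] (q : Ideal B) [q.IsPrime] (hq : maximalIdeal A ≤ q.comap (algebraMap A B)) :
    ∃ (E : Type u) (_ : CommRing E) (_ : IsLocalRing E) (_ : Algebra A E) (π : E →ₐ[A] q.ResidueField),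
      Module.Finite A E ∧ Algebra.Etale A E ∧ RingHom.ker π = maximalIdeal E ∧
      ∀ (qE : Ideal (E ⊗[A] B)) [qE.IsPrime],
        qE = RingHom.ker (Algebra.TensorProduct.lift π (IsScalarTower.toAlgHom A B q.ResidueField)
          (fun _ _ => Commute.all _ _)) → PrimaryAt E qE := by
  let κ := q.ResidueField
  let k := ResidueField A
  have hk : ∀ a ∈ maximalIdeal A, algebraMap A κ a = 0 := fun a ha => by
    rw [IsScalarTower.algebraMap_apply A B κ]
    exact Ideal.algebraMap_residueField_eq_zero.2 (hq ha)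
  letI : Algebra k κ := (Ideal.Quotient.lift (maximalIdeal A) (algebraMap A κ) hk).toAlgebra
  haveI : IsScalarTower A k κ := IsScalarTower.of_algebraMap_eq fun _ => rfl
  haveI : Algebra.EssFiniteType A κ := Algebra.EssFiniteType.comp A B κ
  haveI : Algebra.EssFiniteType k κ := Algebra.EssFiniteType.of_comp A k κ
  let l := separableClosure k κ
  haveI : FiniteDimensional k l := NagataLib.finiteDimensional_of_isAlgebraic l
  obtain ⟨E, hcr, hlr, halg, hloc, hfin, het, ⟨e⟩⟩ := Hensel.exists_finite_etale_residueField A l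
  let π₀ : E →+* κ := (algebraMap l κ).comp ((e : ResidueField E →+* l).comp (residue E))
  let π : E →ₐ[A] κ :=
    { π₀ with
      commutes' := fun a => by
        show algebraMap l κ (e (residue E (algebraMap A E a))) = algebraMap A κ a
        rw [show residue E (algebraMap A E a) = algebraMap k (ResidueField E) (residue A a) from rfl, e.commutes,
          ← IsScalarTower.algebraMap_apply k l κ]
        rfl }
  have hπker : RingHom.ker π = maximalIdeal E := by
    ext x
    show π₀ x = 0 ↔ _
    simp [π₀]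
  refine ⟨E, hcr, hlr, halg, π, hfin, het, hπker, ?_⟩
  intro qE _ hqE z hz
  obtain ⟨P, hPm, hPs, hPz⟩ := hz
  let φ : E ⊗[A] B →ₐ[A] κ := Algebra.TensorProduct.lift π (IsScalarTower.toAlgHom A B κ)
    (fun _ _ => Commute.all _ _)
  let j : qE.ResidueField →+* κ := Ideal.ResidueField.lift qE φ.toRingHom hqE.le
    (fun t ht => isUnit_iff_ne_zero.2 fun h0 => ht (hqE.ge (RingHom.mem_ker.2 h0)))
  have hjE : ∀ x, j (algebraMap E qE.ResidueField x) = π x := fun x => by
    rw [IsScalarTower.algebraMap_apply E (E ⊗[A] B) qE.ResidueField, Ideal.ResidueField.lift_algebraMap]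
    show φ (x ⊗ₜ[A] (1 : B)) = _
    simp [φ]
  let ψ : E →+* l := (e : ResidueField E →+* l).comp (residue E)
  have hψs : Function.Surjective ψ := e.surjective.comp residue_surjective
  have hsepl : (P.map ψ).Separable := by
    rw [show P.map ψ = (P.map (residue E)).map (e : ResidueField E →+* l) from (Polynomial.map_map _ _ _).symm,
      Polynomial.separable_map]
    exact hPs
  have hroot : Polynomial.aeval (j z) (P.map ψ) = 0 := by
    rw [Polynomial.aeval_def, Polynomial.eval₂_map,
      show (algebraMap l κ).comp ψ = j.comp (algebraMap E qE.ResidueField) from RingHom.ext fun x => (hjE x).symm,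
      ← Polynomial.hom_eval₂, ← Polynomial.aeval_def, hPz, map_zero]
  have hsep : IsSeparable l (j z) := hsepl.of_dvd (minpoly.dvd l (j z) hroot)
  have hmem : j z ∈ l := mem_separableClosure_iff.2 (IsSeparable.of_algebra_isSeparable_of_isSeparable k hsep)
  obtain ⟨x, hx⟩ := hψs ⟨j z, hmem⟩
  refine ⟨x, j.injective ?_⟩
  rw [hjE]
  exact congrArg Subtype.val hx

/-- **Flatness from one point**, over a normal local domain with geometrically normal formal fibres. -/
theorem flatAt_of_normal {A B C : Type u} [CommRing A] [IsNoetherianRing A] [IsLocalRing A] [IsDomain A]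
    [IsIntegrallyClosed A] (hA : EGA4.HasGeomNormalFormalFibres A) [CommRing B] [Algebra A B]
    [Algebra.FiniteType A B] [CommRing C] [IsLocalRing C] [IsDomain C] [IsNoetherianRing C] [Algebra A C]
    [Algebra.EssFiniteType A C] [IsLocalHom (algebraMap A C)] (hinj : Function.Injective (algebraMap A C))
    (Q : Ideal (C ⊗[A] B)) [Q.IsPrime] (hQm : Q.comap (algebraMap C (C ⊗[A] B)) = maximalIdeal C)
    (q : Ideal B) [q.IsPrime]
    (hQq : Q.comap (Algebra.TensorProduct.includeRight : B →ₐ[A] C ⊗[A] B).toRingHom = q)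
    (h : FlatAt C Q) : FlatAt A q := by
  let κQ := Q.ResidueField
  let κ := q.ResidueField
  let fC : C →ₐ[A] κQ := (IsScalarTower.toAlgHom A (C ⊗[A] B) κQ).comp (IsScalarTower.toAlgHom A C (C ⊗[A] B))
  let fB : B →ₐ[A] κQ := (IsScalarTower.toAlgHom A (C ⊗[A] B) κQ).comp Algebra.TensorProduct.includeRight
  have hfC : ∀ c, fC c = 0 ↔ c ∈ maximalIdeal C := fun c => by
    rw [← hQm]
    exact Ideal.algebraMap_residueField_eq_zero
  have hfB : ∀ b, fB b = 0 ↔ b ∈ q := fun b => by
    rw [← hQq]
    exact Ideal.algebraMap_residueField_eq_zero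
  have hqm : maximalIdeal A ≤ q.comap (algebraMap A B) := fun a ha => by
    rw [Ideal.mem_comap, ← hfB, AlgHom.commutes, ← fC.commutes, hfC]
    exact map_nonunit _ a ha
  let ι : κ →ₐ[A] κQ := Ideal.ResidueField.liftₐ q fB (fun b hb => (hfB b).2 hb)
    (fun b hb => isUnit_iff_ne_zero.2 fun h0 => hb ((hfB b).1 h0))
  obtain ⟨E, _, _, _, π, hfin, het, hπker, hprimE⟩ := exists_etale_primary q hqm
  haveI := hfin
  haveI := het
  obtain ⟨hEd, hEn⟩ := isDomain_isIntegrallyClosed_finEtale (A := A) (E := E)
  haveI := hEd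
  haveI := hEn
  haveI : IsNoetherianRing E := IsNoetherianRing.of_finite A E
  haveI : Algebra.EssFiniteType A E := inferInstance
  have hEg : EGA4.HasGeomNormalFormalFibres E := S2641.result A hA E
  have hEu : CAlg2.IsUnibranch E := (S9812.result E).1
  haveI hEcpl : IsDomain (AdicCompletion (maximalIdeal E) E) := (S2684.result E hEg).1.2 hEu
  -- the point of the fibre product
  let D := C ⊗[A] E
  let fE : E →ₐ[A] κQ := ι.comp π
  let ρ : D →ₐ[A] κQ := Algebra.TensorProduct.lift fC fE (fun _ _ => Commute.all _ _)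
  let M : Ideal D := RingHom.ker ρ
  haveI : M.IsPrime := RingHom.ker_isPrime _
  have hMC : M.comap (algebraMap C D) = maximalIdeal C := Ideal.ext fun c => by
    show ρ (c ⊗ₜ[A] (1 : E)) = 0 ↔ _
    rw [Algebra.TensorProduct.lift_tmul, map_one, mul_one, hfC]
  haveI : Module.Flat A E := inferInstance
  haveI : M.LiesOver (maximalIdeal C) := ⟨hMC.symm⟩
  obtain ⟨P, hPM, hPprime, hPover⟩ :=
    Ideal.exists_ideal_le_liesOver_of_le (p := (⊥ : Ideal C)) (q := maximalIdeal C) M bot_le
  haveI := hPprime
  have hPC : P.comap (algebraMap C D) = ⊥ := hPover.over.symm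
  have hPE : P.comap (algebraMap E D) = ⊥ := by
    refine Ideal.eq_bot_of_comap_eq_bot (R := A) ?_
    rw [Ideal.comap_comap]
    refine eq_bot_iff.2 fun a ha => hinj ?_
    rw [map_zero]
    have h1 : algebraMap A C a ∈ P.comap (algebraMap C D) := by
      rw [Ideal.mem_comap, ← IsScalarTower.algebraMap_apply A C D]
      have h2 : algebraMap E D (algebraMap A E a) ∈ P := ha
      rwa [← IsScalarTower.algebraMap_apply A E D] at h2
    rwa [hPC] at h1
  let D₁ := D ⧸ P
  let ρ₁ : D₁ →ₐ[A] κQ := Ideal.Quotient.liftₐ P ρ fun x hx => hPM hx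
  let M₁ : Ideal D₁ := RingHom.ker ρ₁
  haveI : M₁.IsPrime := RingHom.ker_isPrime _
  let C' := Localization.AtPrime M₁
  let g' : C' →ₐ[A] κQ := IsLocalization.liftAlgHom (M := M₁.primeCompl) (f := ρ₁)
    fun s => isUnit_iff_ne_zero.2 fun h0 => s.2 (RingHom.mem_ker.2 h0)
  have hg' : ∀ d, g' (algebraMap D₁ C' d) = ρ₁ d := fun d => IsLocalization.lift_eq _ d
  haveI : Algebra.EssFiniteType A D := Algebra.EssFiniteType.comp A C D
  haveI : Algebra.EssFiniteType A D₁ := Algebra.EssFiniteType.comp A D D₁
  haveI : Algebra.EssFiniteType A C' := Algebra.EssFiniteType.comp A D₁ C'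
  haveI : Algebra.EssFiniteType E C' := Algebra.EssFiniteType.of_comp A E C'
  haveI : IsNoetherianRing D := Algebra.EssFiniteType.isNoetherianRing A D
  haveI : IsNoetherianRing C' := Algebra.EssFiniteType.isNoetherianRing A C'
  have hEC' : ∀ x : E, algebraMap E C' x = algebraMap D₁ C' (Ideal.Quotient.mk P ((1 : C) ⊗ₜ[A] x)) := fun x => by
    rw [IsScalarTower.algebraMap_apply E D₁ C', IsScalarTower.algebraMap_apply E D D₁]
    rfl
  have hinjE : Function.Injective (algebraMap E C') := by
    rw [injective_iff_map_eq_zero]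
    intro x hx
    rw [hEC'] at hx
    have h1 := IsLocalization.injective C' M₁.primeCompl_le_nonZeroDivisors (hx.trans (map_zero _).symm)
    have h2 : x ∈ P.comap (algebraMap E D) := (Ideal.Quotient.eq_zero_iff_mem (I := P)).1 h1
    rwa [hPE] at h2
  have hgE : ∀ x : E, g' (algebraMap E C' x) = fE x := fun x => by
    rw [hEC', hg']
    show ρ ((1 : C) ⊗ₜ[A] x) = _
    rw [Algebra.TensorProduct.lift_tmul, map_one, one_mul]
  have hg'm : ∀ y : C', g' y = 0 ↔ y ∈ maximalIdeal C' := fun y => by
    obtain ⟨⟨d, s⟩, hs⟩ := IsLocalization.surj M₁.primeCompl y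
    have hu := IsLocalization.map_units C' s
    have h1 : g' y * ρ₁ s = ρ₁ d := by rw [← hg', ← hg', ← map_mul, hs]
    have h2 : y ∈ maximalIdeal C' ↔ d ∈ M₁ := by
      rw [← IsLocalization.AtPrime.to_map_mem_maximal_iff C' M₁ d, ← hs,
        Ideal.mul_unit_mem_iff_mem _ hu]
    rw [h2]
    show _ ↔ ρ₁ d = 0
    rw [← h1, mul_eq_zero, or_iff_left fun h0 => s.2 (RingHom.mem_ker.2 h0)]
  haveI : IsLocalHom (algebraMap E C') := ⟨fun x hx => by
    by_contra hn
    have h1 : fE x = 0 := by
      show ι (π x) = 0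
      rw [show π x = 0 from hπker.ge hn, map_zero]
    exact ((hg'm _).1 ((hgE x).trans h1)) hx⟩
  -- flatness over `C'`
  let fC' : C →ₐ[A] C' := IsScalarTower.toAlgHom A C C'
  have hgC : ∀ c, g' (algebraMap C C' c) = fC c := fun c => by
    rw [IsScalarTower.algebraMap_apply C D₁ C', hg', IsScalarTower.algebraMap_apply C D D₁]
    show ρ (c ⊗ₜ[A] (1 : E)) = _
    rw [Algebra.TensorProduct.lift_tmul, map_one, mul_one]
  let χ : C' ⊗[A] B →ₐ[A] κQ := Algebra.TensorProduct.lift g' fB (fun _ _ => Commute.all _ _)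
  let Q₂ : Ideal (C' ⊗[A] B) := RingHom.ker χ
  haveI : Q₂.IsPrime := RingHom.ker_isPrime _
  have hflat₂ : FlatAt (B := C' ⊗[A] B) C' Q₂ := by
    refine flatAt_tensor_tower Q₂ Q ?_ h
    ext t
    have key : χ (Algebra.TensorProduct.map (IsScalarTower.toAlgHom A C C') (AlgHom.id A B) t) =
        algebraMap (C ⊗[A] B) κQ t := by
      induction t using TensorProduct.induction_on with
      | zero => simp
      | tmul c b =>
        rw [Algebra.TensorProduct.map_tmul, Algebra.TensorProduct.lift_tmul, AlgHom.id_apply]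
        show g' (algebraMap C C' c) * fB b = _
        rw [hgC]
        show algebraMap (C ⊗[A] B) κQ (c ⊗ₜ 1) * algebraMap (C ⊗[A] B) κQ (1 ⊗ₜ b) = _
        rw [← map_mul, Algebra.TensorProduct.tmul_mul_tmul, mul_one, one_mul]
      | add x y hx hy => simp only [map_add, hx, hy]
    show χ _ = 0 ↔ _
    exact (Eq.congr_left key).trans Ideal.algebraMap_residueField_eq_zero
  let e : C' ⊗[E] (E ⊗[A] B) ≃ₐ[C'] C' ⊗[A] B := Algebra.TensorProduct.cancelBaseChange A E C' C' B
  have hflat' := flatAt_cancel (A := A) (E := E) (C := C') (B := B) Q₂ hflat₂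
  let φ : E ⊗[A] B →ₐ[A] κ := Algebra.TensorProduct.lift π (IsScalarTower.toAlgHom A B κ)
    (fun _ _ => Commute.all _ _)
  let qE : Ideal (E ⊗[A] B) := RingHom.ker φ
  haveI : qE.IsPrime := RingHom.ker_isPrime _
  have hιB : ∀ b, ι (algebraMap B κ b) = fB b := fun b => Ideal.ResidueField.liftₐ_algebraMap _ _ _ _ b
  have hQ₂qE : (Q₂.comap e).comap
      (Algebra.TensorProduct.includeRight : E ⊗[A] B →ₐ[E] C' ⊗[E] (E ⊗[A] B)).toRingHom = qE := by
    ext t
    have key : χ (e ((1 : C') ⊗ₜ[E] t)) = ι (φ t) := by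
      induction t using TensorProduct.induction_on with
      | zero => simp
      | tmul x b =>
        simp only [e, Algebra.TensorProduct.cancelBaseChange_tmul, φ, Algebra.TensorProduct.lift_tmul, map_mul]
        rw [Algebra.smul_def, mul_one]
        show χ (algebraMap E C' x ⊗ₜ[A] b) = ι (π x) * ι (algebraMap B κ b)
        rw [Algebra.TensorProduct.lift_tmul, hgE, hιB]
        rfl
      | add x y hx hy => rw [TensorProduct.tmul_add, map_add, map_add, hx, hy, map_add, map_add]
    show χ (e ((1 : C') ⊗ₜ[E] t)) = 0 ↔ φ t = 0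
    rw [key, map_eq_zero]
  have hQ₂m : (Q₂.comap e).comap (algebraMap C' (C' ⊗[E] (E ⊗[A] B))) = maximalIdeal C' := Ideal.ext fun y => by
    show χ (e (algebraMap C' _ y)) = 0 ↔ _
    rw [e.commutes, Algebra.TensorProduct.algebraMap_apply, Algebra.TensorProduct.lift_tmul, map_one, mul_one,
      Algebra.algebraMap_self, RingHom.id_apply, hg'm]
  have hEflat : FlatAt E qE := flatAt_of_primary
    (fun N => S12420.result E C' hinjE N) (Q₂.comap e) hQ₂m qE hQ₂qE (hprimE qE rfl) hflat'
  refine flatAt_of_flat_baseChange qE q ?_ hEflat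
  ext b
  show φ ((1 : E) ⊗ₜ[A] b) = 0 ↔ _
  rw [Algebra.TensorProduct.lift_tmul, map_one, one_mul]
  exact Ideal.algebraMap_residueField_eq_zero

end Groth.Agent.FlatUnib5
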