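import Groth.Agent.FlatUnib5.Loc
import Groth.Agent.FlatModel.IntegralDescent
import Groth.Agent.FlatModel.Open

/-!
# Flatness at a prime descends along integral injective extensions of the base
-/

set_option autoImplicit false
set_option synthInstance.maxHeartbeats 400000
set_option maxHeartbeats 1000000
set_option backward.isDefEq.respectTransparency.types false

universe u

open TensorProduct

namespace Groth.Agent.FlatUnib5

attribute [local instance] Algebra.TensorProduct.rightAlgebra

/-- Integral base change. -/
theorem isIntegral_includeRight {A A' B : Type u} [CommRing A] [CommRing A'] [CommRing B] [Algebra A A']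
    [Algebra A B] [Algebra.IsIntegral A A'] :
    (Algebra.TensorProduct.includeRight : B →ₐ[A] A' ⊗[A] B).toRingHom.IsIntegral := by
  have h1 : (algebraMap B (B ⊗[A] A')).IsIntegral :=
    algebraMap_isIntegral_iff.2 (Algebra.IsIntegral.tensorProduct A B A')
  have e : (Algebra.TensorProduct.includeRight : B →ₐ[A] A' ⊗[A] B).toRingHom =
      (Algebra.TensorProduct.comm A B A').toRingEquiv.toRingHom.comp (algebraMap B (B ⊗[A] A')) :=
    RingHom.ext fun b => by simp
  rw [e]
  exact RingHom.IsIntegral.trans _ _ h1 (RingHom.isIntegral_of_surjective _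
    (Algebra.TensorProduct.comm A B A').surjective)

/-- Flatness over a base change at every prime. -/
theorem flat_tensor_away {A A' B : Type u} [CommRing A] [CommRing A'] [CommRing B] [Algebra A A'] [Algebra A B]
    (b : B) (h : ∀ (P : Ideal (A' ⊗[A] B)) [P.IsPrime], (1 : A') ⊗ₜ[A] b ∉ P → FlatAt A' P) :
    Module.Flat A' (A' ⊗[A] Localization.Away b) := by
  let Y := A' ⊗[A] Localization.Away b
  letI : Algebra (A' ⊗[A] B) Y := tensorAlg A A' (Localization.Away b)
  haveI hloc := isLocalization_tensor (R := A) (R' := A') (Submonoid.powers b) (Localization.Away b)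
  haveI : IsScalarTower A' (A' ⊗[A] B) Y := IsScalarTower.of_algebraMap_eq fun a =>
    ((Algebra.TensorProduct.map (AlgHom.id A' A')
      (IsScalarTower.toAlgHom A B (Localization.Away b))).commutes a).symm
  refine Module.flat_of_isLocalized_maximal Y Y (fun (P : Ideal Y) _ => Localization.AtPrime P)
    (fun P _ => Algebra.linearMap Y (Localization.AtPrime P)) fun P hP => ?_
  let P₀ := P.comap (algebraMap (A' ⊗[A] B) Y)
  have hb : (1 : A') ⊗ₜ[A] b ∉ P₀ := fun hb => hP.ne_top (Ideal.eq_top_of_isUnit_mem _ hb
    (IsLocalization.map_units Y (⟨(1 : A') ⊗ₜ[A] b, ⟨b, Submonoid.mem_powers b, rfl⟩⟩ :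
      (Submonoid.powers b).map (Algebra.TensorProduct.includeRight : B →ₐ[A] A' ⊗[A] B).toRingHom)))
  haveI : Module.Flat A' (Localization.AtPrime P₀) := h P₀ hb
  haveI : IsLocalization P₀.primeCompl (Localization.AtPrime P) :=
    IsLocalization.isLocalization_isLocalization_atPrime_isLocalization
      ((Submonoid.powers b).map (Algebra.TensorProduct.includeRight : B →ₐ[A] A' ⊗[A] B).toRingHom)
      (Localization.AtPrime P) P
  exact Module.Flat.of_linearEquiv
    ((IsLocalization.algEquiv P₀.primeCompl (Localization.AtPrime P) (Localization.AtPrime P₀)).restrictScalars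
      A').toLinearEquiv

/-- Flatness at a prime descends along an injective integral extension of the base. -/
theorem flatAt_of_integral {A A' B : Type u} [CommRing A] [CommRing A'] [CommRing B] [Algebra A A'] [Algebra A B]
    [Algebra.IsIntegral A A'] [Algebra.FinitePresentation A B] (hinj : Function.Injective (algebraMap A A'))
    (q : Ideal B) [q.IsPrime]
    (h : ∀ (Q : Ideal (A' ⊗[A] B)) [Q.IsPrime],
      Q.comap (Algebra.TensorProduct.includeRight : B →ₐ[A] A' ⊗[A] B).toRingHom = q → FlatAt A' Q) :
    FlatAt A q := by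
  let ι := (Algebra.TensorProduct.includeRight : B →ₐ[A] A' ⊗[A] B).toRingHom
  have hopen := FlatModel.isOpen_flatLocus (R := A') (S := A' ⊗[A] B) (M := A' ⊗[A] B)
  have hclosed := PrimeSpectrum.isClosedMap_comap_of_isIntegral ι
    (isIntegral_includeRight (A := A) (A' := A') (B := B)) _ hopen.isClosed_compl
  obtain ⟨_, ⟨b, rfl⟩, hqb, hsub⟩ := PrimeSpectrum.isTopologicalBasis_basic_opens.exists_subset_of_mem_open
    (a := ⟨q, inferInstance⟩) (show (⟨q, inferInstance⟩ : PrimeSpectrum B) ∈ _ from (by
      rintro ⟨Q, hQ, hQq⟩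
      exact hQ ((flatAt_iff_localizedModule A' Q.asIdeal).2 (h Q.asIdeal (congrArg PrimeSpectrum.asIdeal hQq)))))
    hclosed.isOpen_compl
  let Bb := Localization.Away b
  haveI : Algebra.FinitePresentation B Bb := IsLocalization.Away.finitePresentation b
  haveI : Algebra.FinitePresentation A Bb := Algebra.FinitePresentation.trans A B Bb
  haveI : Module.Flat A' (A' ⊗[A] Bb) := by
    refine flat_tensor_away b fun P _ hP => (flatAt_iff_localizedModule A' P).1 ?_
    by_contra hn
    exact hsub (a := PrimeSpectrum.comap ι ⟨P, inferInstance⟩) hP ⟨⟨P, inferInstance⟩, hn, rfl⟩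
  have hflat : Module.Flat A Bb := by
    obtain ⟨n, ψ, hψ, hk⟩ := Algebra.FinitePresentation.out (R := A) (A := Bb)
    letI := ψ.toRingHom.toAlgebra
    haveI : IsScalarTower A (MvPolynomial (Fin n) A) Bb :=
      IsScalarTower.of_algebraMap_eq fun r => (ψ.commutes r).symm
    haveI : Module.FinitePresentation (MvPolynomial (Fin n) A) Bb :=
      Module.finitePresentation_of_surjective (Algebra.linearMap (MvPolynomial (Fin n) A) Bb) hψ hk
    exact FlatModel.flat_of_flat_baseChange_integral A A' hinj n Bb
  haveI := hflat
  let X := Localization.AtPrime q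
  let l : Bb →+* X := IsLocalization.lift (M := Submonoid.powers b) (g := algebraMap B X) fun s => by
    obtain ⟨m, hm⟩ := s.2
    rw [← hm, map_pow]
    exact (IsLocalization.map_units X (⟨b, hqb⟩ : q.primeCompl)).pow m
  letI : Algebra Bb X := l.toAlgebra
  haveI : IsScalarTower B Bb X := IsScalarTower.of_algebraMap_eq fun x => (IsLocalization.lift_eq _ x).symm
  haveI : IsScalarTower A Bb X := IsScalarTower.of_algebraMap_eq fun a => by
    rw [IsScalarTower.algebraMap_apply A B Bb, ← IsScalarTower.algebraMap_apply B Bb X,
      ← IsScalarTower.algebraMap_apply A B X]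
  haveI : IsLocalization (q.primeCompl.map (algebraMap B Bb)) X :=
    IsLocalization.isLocalization_of_submonoid_le Bb X (Submonoid.powers b) q.primeCompl (Submonoid.powers_le.2 hqb)
  haveI : Module.Flat Bb X := IsLocalization.flat X (q.primeCompl.map (algebraMap B Bb))
  exact Module.Flat.trans A Bb X

end Groth.Agent.FlatUnib5
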