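import Mathlib

/-!
# A valuation ring dominating an injective local extension
-/

set_option autoImplicit false

universe u

open IsLocalRing

namespace Groth.Agent.FlatUnib5

/-- A valuation ring of a field dominating a given local extension of a local domain. -/
theorem exists_valuation_dominating {A A' : Type u} [CommRing A] [IsDomain A] [CommRing A'] [IsLocalRing A']
    [Algebra A A'] (hinj : Function.Injective (algebraMap A A')) :
    ∃ (L : Type u) (_ : Field L) (V : ValuationSubring L) (v : A' →+* V),
      IsLocalHom v ∧ Function.Injective (v.comp (algebraMap A A')) := by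
  have hmin : (⊥ : Ideal A) ∈ minimalPrimes A := by
    rw [IsDomain.minimalPrimes_eq_singleton_bot]; rfl
  obtain ⟨p, hp, hpA⟩ := Ideal.exists_comap_eq_of_mem_minimalPrimes_of_injective hinj ⊥ hmin
  let D := A' ⧸ p
  haveI : IsLocalRing D := IsLocalRing.of_surjective' (Ideal.Quotient.mk p) Ideal.Quotient.mk_surjective
  let L := FractionRing D
  let g : A' →+* L := (algebraMap D L).comp (Ideal.Quotient.mk p)
  obtain ⟨V, hle, hloc⟩ := (LocalSubring.range g).exists_le_valuationSubring
  have hmem : ∀ x, g x ∈ V := fun x => hle ⟨x, rfl⟩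
  let v : A' →+* V := g.codRestrict V.toSubring hmem
  refine ⟨L, inferInstance, V, v, ⟨fun x hx => ?_⟩, ?_⟩
  · have h1 : IsUnit (⟨g x, ⟨x, rfl⟩⟩ : (LocalSubring.range g).toSubring) := hloc.map_nonunit _ hx
    haveI : IsLocalHom g.rangeRestrict := IsLocalHom.of_surjective _ g.rangeRestrict_surjective
    exact (isUnit_map_iff g.rangeRestrict x).1 h1
  · rw [injective_iff_map_eq_zero]
    intro a ha
    have h1 : g (algebraMap A A' a) = 0 := congrArg Subtype.val ha
    have h2 : a ∈ p.comap (algebraMap A A') :=
      (Ideal.Quotient.eq_zero_iff_mem (I := p)).1 ((injective_iff_map_eq_zero _).1 (IsFractionRing.injective D L) _ h1)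
    rwa [hpA] at h2

end Groth.Agent.FlatUnib5
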