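import Groth.Agent.FlatUnib5.Approx
import Groth.Agent.FlatUnib5.Integral
import Groth.Agent.FlatUnib5.Valuation
import Groth.Prelude.Def_CAlg2

/-!
# Descent of flatness over unibranch local domains
-/

set_option autoImplicit false
set_option synthInstance.maxHeartbeats 400000
set_option maxHeartbeats 1000000
set_option backward.isDefEq.respectTransparency false
set_option backward.isDefEq.respectTransparency.types false

universe u

open TensorProduct IsLocalRing

namespace Groth.Agent.FlatUnib5

attribute [local instance] Algebra.TensorProduct.rightAlgebra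

/-- Every element of the residue field has a `p`-power coming from the base. -/
def PurelyInsepResidue (A N : Type u) [CommRing A] [CommRing N] [IsLocalRing N] [Algebra A N] : Prop :=
  ∀ x : N, ∃ (n : ℕ) (a : A), x ^ ringExpChar (ResidueField N) ^ n - algebraMap A N a ∈ maximalIdeal N

/-- The normalisation of a unibranch local domain. -/
theorem exists_norm {A : Type u} [CommRing A] [IsDomain A] [IsLocalRing A] (hA : CAlg2.IsUnibranch A) :
    ∃ (K : Type u) (_ : Field K) (_ : Algebra A K) (_ : IsFractionRing A K) (_ : IsLocalRing (integralClosure A K)),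
      CAlg2.IsGeomUnibranch A → PurelyInsepResidue A (integralClosure A K) := by
  have hnil : nilradical A = ⊥ := nilradical_eq_zero A
  haveI : IsDomain (CAlg2.red A) := hA.1
  let π : A →+* CAlg2.red A := Ideal.Quotient.mk (nilradical A)
  have hπ : Function.Bijective π := ⟨(injective_iff_map_eq_zero π).2 fun a ha => by
    have := (Ideal.Quotient.eq_zero_iff_mem (I := nilradical A)).1 ha
    rwa [hnil] at this, Ideal.Quotient.mk_surjective⟩
  let K := FractionRing (CAlg2.red A)
  have hAK : ∀ a, algebraMap A K a = algebraMap (CAlg2.red A) K (π a) := fun a =>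
    IsScalarTower.algebraMap_apply A (CAlg2.red A) K a
  haveI : FaithfulSMul A K := (faithfulSMul_iff_algebraMap_injective A K).2 fun a b h =>
    hπ.1 (IsFractionRing.injective (CAlg2.red A) K (by rw [← hAK, ← hAK, h]))
  haveI : IsFractionRing A K := IsFractionRing.of_field _ _ fun z => by
    obtain ⟨a, b, -, rfl⟩ := IsFractionRing.div_surjective (A := CAlg2.red A) z
    obtain ⟨a, rfl⟩ := hπ.2 a
    obtain ⟨b, rfl⟩ := hπ.2 b
    exact ⟨a, b, by rw [hAK, hAK]⟩
  haveI : Algebra.IsIntegral A (CAlg2.red A) :=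
    algebraMap_isIntegral_iff.1 (RingHom.isIntegral_of_surjective _ hπ.2)
  let e : CAlg2.normRed A ≃+* integralClosure A K :=
    { toFun := fun x => ⟨x.1, isIntegral_trans x.1 x.2⟩
      invFun := fun x => ⟨x.1, IsIntegral.tower_top x.2⟩
      left_inv := fun _ => rfl
      right_inv := fun _ => rfl
      map_mul' := fun _ _ => rfl
      map_add' := fun _ _ => rfl }
  haveI : IsLocalRing (CAlg2.normRed A) := hA.2
  haveI hloc : IsLocalRing (integralClosure A K) := e.isLocalRing
  refine ⟨K, inferInstance, inferInstance, inferInstance, hloc, fun hg x => ?_⟩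
  let m := maximalIdeal (CAlg2.normRed A)
  have hm : ∀ y, e y ∈ maximalIdeal (integralClosure A K) ↔ y ∈ m := fun y => by
    rw [mem_maximalIdeal, mem_maximalIdeal, mem_nonunits_iff, mem_nonunits_iff, MulEquiv.isUnit_map]
  let j : CAlg2.normRed A ⧸ m →+* ResidueField (integralClosure A K) :=
    Ideal.Quotient.lift m ((residue _).comp e.toRingHom) fun y hy => (residue_eq_zero_iff _).2 ((hm y).2 hy)
  have hp : ringExpChar (CAlg2.normRed A ⧸ m) = ringExpChar (ResidueField (integralClosure A K)) := by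
    letI : Field (CAlg2.normRed A ⧸ m) := Ideal.Quotient.field m
    haveI := expChar_of_injective_ringHom j.injective (ringExpChar (CAlg2.normRed A ⧸ m))
    exact (ringExpChar.eq (ResidueField (integralClosure A K)) (ringExpChar (CAlg2.normRed A ⧸ m))).symm
  obtain ⟨n, a, ha⟩ := hg.2 m (Ideal.Quotient.mk m (e.symm x))
  refine ⟨n, a, (residue_eq_zero_iff _).1 ?_⟩
  have h1 := congrArg j ha
  rw [map_pow] at h1
  have hx : j (Ideal.Quotient.mk m (e.symm x)) = residue _ x :=
    congrArg (residue _) (e.apply_symm_apply x)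
  rw [hx, hp] at h1
  rw [map_sub, map_pow, sub_eq_zero, ← h1]
  rfl

/-- The normalisation of a local domain inside a dominating valuation ring. -/
theorem exists_hom_to_valuation {A K L : Type u} [CommRing A] [Field K] [Algebra A K] [IsFractionRing A K] [Field L]
    (V : ValuationSubring L) [Algebra A V] (hinj : Function.Injective (algebraMap A V)) :
    ∃ w : integralClosure A K →ₐ[A] V, Function.Injective w := by
  letI : Algebra A L := ((algebraMap V L).comp (algebraMap A V)).toAlgebra
  haveI : IsScalarTower A V L := IsScalarTower.of_algebraMap_eq fun _ => rfl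
  have hinjL : Function.Injective (algebraMap A L) := by
    rw [IsScalarTower.algebraMap_eq A V L]
    exact (IsFractionRing.injective V L).comp hinj
  let gK : K →+* L := IsFractionRing.lift hinjL
  have hcomp : ∀ a, gK (algebraMap A K a) = algebraMap A L a := fun a => IsFractionRing.lift_algebraMap hinjL a
  let g : integralClosure A K →+* L := gK.comp (algebraMap (integralClosure A K) K)
  have hmem : ∀ x, ∃ y : V, algebraMap V L y = g x := fun x => by
    have hx : IsIntegral A (x : K) := (mem_integralClosure_iff A K).1 x.2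
    refine (IsIntegrallyClosed.isIntegral_iff (R := V) (K := L)).1 ?_
    exact IsIntegral.map_of_comp_eq (algebraMap A V) gK (RingHom.ext fun a => by
      rw [RingHom.comp_apply, RingHom.comp_apply, hcomp, ← IsScalarTower.algebraMap_apply]) hx
  obtain ⟨f, hf⟩ := exists_lift_hom g hmem
  refine ⟨{ f with commutes' := fun a => IsFractionRing.injective V L ?_ }, fun x y h => ?_⟩
  · show algebraMap V L (f _) = _
    rw [hf, ← IsScalarTower.algebraMap_apply A V L, RingHom.comp_apply, ← IsScalarTower.algebraMap_apply, hcomp]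
  · have h1 : g x = g y := by rw [← hf, ← hf]; exact congrArg _ h
    exact (gK.injective.comp (FaithfulSMul.algebraMap_injective (integralClosure A K) K)) h1

/-- Flatness at the point of the normalisation under a point over a dominating valuation ring. -/
theorem flatAt_norm {A N A' V B : Type u} [CommRing A] [CommRing N] [IsLocalRing N] [IsDomain N]
    [IsIntegrallyClosed N] [CommRing A'] [CommRing V] [IsLocalRing V] [IsDomain V] [CommRing B] [Algebra A N]
    [Algebra A A'] [Algebra A V] [Algebra A' V] [Algebra N V] [IsScalarTower A A' V] [IsScalarTower A N V]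
    [IsLocalHom (algebraMap N V)] (hinj : Function.Injective (algebraMap N V)) [Algebra A B]
    [Algebra.FinitePresentation A B] (Q₁ : Ideal (V ⊗[A] B)) [Q₁.IsPrime]
    (hQ₁ : Q₁.comap (algebraMap V (V ⊗[A] B)) = maximalIdeal V) (Q' : Ideal (A' ⊗[A] B)) [Q'.IsPrime]
    (hQ' : Q₁.comap (Algebra.TensorProduct.map (IsScalarTower.toAlgHom A A' V) (AlgHom.id A B)).toRingHom = Q')
    (h : FlatAt A' Q') (Q₀ : Ideal (N ⊗[A] B)) [Q₀.IsPrime]
    (hQ₀ : Q₁.comap (Algebra.TensorProduct.map (IsScalarTower.toAlgHom A N V) (AlgHom.id A B)).toRingHom = Q₀) :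
    FlatAt N Q₀ := by
  have h1 : FlatAt V Q₁ := flatAt_tensor_tower Q₁ Q' hQ' h
  have h2 := flatAt_cancel (A := A) (E := N) (C := V) (B := B) Q₁ h1
  refine flatAt_of_integrallyClosed hinj (Q₁.comap (Algebra.TensorProduct.cancelBaseChange A N V V B))
    ?_ Q₀ ?_ h2
  · rw [← hQ₁]
    ext v
    show Algebra.TensorProduct.cancelBaseChange A N V V B (algebraMap V _ v) ∈ Q₁ ↔ _
    rw [AlgEquiv.commutes]
    rfl
  · rw [← hQ₀]
    ext t
    have key : Algebra.TensorProduct.cancelBaseChange A N V V B ((1 : V) ⊗ₜ[N] t) =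
        Algebra.TensorProduct.map (IsScalarTower.toAlgHom A N V) (AlgHom.id A B) t := by
      induction t using TensorProduct.induction_on with
      | zero => simp
      | tmul c b => simp [Algebra.smul_def]
      | add x y hx hy => rw [TensorProduct.tmul_add, map_add, hx, hy, map_add]
    exact iff_of_eq (congrArg (· ∈ Q₁) key)

/-- Primes over a prime for a purely inseparable residue extension coincide. -/
theorem eq_of_purelyInsep {A N B : Type u} [CommRing A] [IsLocalRing A] [CommRing N] [IsLocalRing N] [Algebra A N]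
    [CommRing B] [Algebra A B] (hp : PurelyInsepResidue A N) (q : Ideal B) (Q₁ Q₂ : Ideal (N ⊗[A] B))
    [Q₁.IsPrime] [Q₂.IsPrime] (h₁ : Q₁.comap (algebraMap N (N ⊗[A] B)) = maximalIdeal N)
    (h₂ : Q₂.comap (algebraMap N (N ⊗[A] B)) = maximalIdeal N)
    (e₁ : Q₁.comap (Algebra.TensorProduct.includeRight : B →ₐ[A] N ⊗[A] B).toRingHom = q)
    (e₂ : Q₂.comap (Algebra.TensorProduct.includeRight : B →ₐ[A] N ⊗[A] B).toRingHom = q) : Q₁ = Q₂ := by
  let J : Ideal (N ⊗[A] B) := (maximalIdeal N).map (algebraMap N (N ⊗[A] B))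
  let R := (N ⊗[A] B) ⧸ J
  have hJ : ∀ Q : Ideal (N ⊗[A] B), Q.comap (algebraMap N (N ⊗[A] B)) = maximalIdeal N → J ≤ Q :=
    fun Q hQ => Ideal.map_le_iff_le_comap.2 hQ.ge
  haveI : Nontrivial R := Ideal.Quotient.nontrivial_iff.2 fun h =>
    Ideal.IsPrime.ne_top ‹Q₁.IsPrime› (top_le_iff.1 (h ▸ hJ Q₁ h₁))
  let k := ResidueField N
  let i : k →+* R := Ideal.Quotient.lift (maximalIdeal N) ((Ideal.Quotient.mk J).comp (algebraMap N _))
    fun x hx => Ideal.Quotient.eq_zero_iff_mem.2 (Ideal.mem_map_of_mem _ hx)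
  let p := ringExpChar k
  haveI : ExpChar R p := expChar_of_injective_ringHom i.injective p
  let ι : B →+* R := (Ideal.Quotient.mk J).comp (Algebra.TensorProduct.includeRight : B →ₐ[A] N ⊗[A] B).toRingHom
  have hκ : ∀ t : N ⊗[A] B, ∃ (n : ℕ) (b : B), Ideal.Quotient.mk J t ^ p ^ n = ι b := by
    intro t
    induction t using TensorProduct.induction_on with
    | zero => exact ⟨0, 0, by simp⟩
    | tmul x b =>
      obtain ⟨n, a, ha⟩ := hp x
      refine ⟨n, a • b ^ p ^ n, ?_⟩
      have h1 : Ideal.Quotient.mk J (algebraMap N _ (x ^ p ^ n)) =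
          Ideal.Quotient.mk J (algebraMap N _ (algebraMap A N a)) :=
        Ideal.Quotient.eq.2 (by rw [← map_sub]; exact Ideal.mem_map_of_mem _ ha)
      rw [← map_pow, Algebra.TensorProduct.tmul_pow]
      show Ideal.Quotient.mk J ((x ^ p ^ n) ⊗ₜ[A] (b ^ p ^ n)) = Ideal.Quotient.mk J ((1 : N) ⊗ₜ[A] (a • b ^ p ^ n))
      rw [show (x ^ p ^ n) ⊗ₜ[A] (b ^ p ^ n) = algebraMap N (N ⊗[A] B) (x ^ p ^ n) * ((1 : N) ⊗ₜ[A] (b ^ p ^ n)) by
          simp,
        show (1 : N) ⊗ₜ[A] (a • b ^ p ^ n) = algebraMap N (N ⊗[A] B) (algebraMap A N a) * ((1 : N) ⊗ₜ[A] (b ^ p ^ n)) by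
          rw [← TensorProduct.smul_tmul, ← Algebra.algebraMap_eq_smul_one]; simp,
        map_mul, map_mul, h1]
    | add x y hx hy =>
      obtain ⟨n, b, hb⟩ := hx
      obtain ⟨m, c, hc⟩ := hy
      refine ⟨n + m, b ^ p ^ m + c ^ p ^ n, ?_⟩
      rw [map_add, add_pow_expChar_pow, map_add, map_pow, map_pow, ← hb, ← hc, ← pow_mul, ← pow_mul, ← pow_add,
        ← pow_add, add_comm m n]
  have key : ∀ (Q : Ideal (N ⊗[A] B)), Q.IsPrime → Q.comap (algebraMap N (N ⊗[A] B)) = maximalIdeal N →
      Q.comap (Algebra.TensorProduct.includeRight : B →ₐ[A] N ⊗[A] B).toRingHom = q →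
      ∀ (t : N ⊗[A] B) (n : ℕ) (b : B), Ideal.Quotient.mk J t ^ p ^ n = ι b → (t ∈ Q ↔ b ∈ q) := by
    intro Q hQ hm hq t n b hb
    rw [← hq]
    rw [← map_pow] at hb
    have h0 : p ^ n ≠ 0 := pow_ne_zero _ (expChar_pos k p).ne'
    have hd : t ^ p ^ n - (Algebra.TensorProduct.includeRight : B →ₐ[A] N ⊗[A] B).toRingHom b ∈ Q :=
      hJ Q hm (Ideal.Quotient.eq.1 hb)
    exact ⟨fun ht => (Q.sub_mem_iff_right (Ideal.pow_mem_of_mem Q ht _ (Nat.pos_of_ne_zero h0))).1 hd,
      fun hb' => hQ.mem_of_pow_mem _ ((Q.sub_mem_iff_left hb').1 hd)⟩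
  ext t
  obtain ⟨n, b, hb⟩ := hκ t
  rw [key Q₁ inferInstance h₁ e₁ t n b hb, key Q₂ inferInstance h₂ e₂ t n b hb]

end Groth.Agent.FlatUnib5
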