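import Groth.Agent.FlatUnib5.Loc
import Groth.Agent.GrFlat5.ArtinPrimary
import Groth.Agent.CAlgOdd.GeomIrrField

/-!
# Descent of flatness from one point over a nilpotent local base
-/

set_option autoImplicit false
set_option synthInstance.maxHeartbeats 400000
set_option backward.isDefEq.respectTransparency.types false

universe u

open TensorProduct IsLocalRing

namespace Groth.Agent.FlatUnib5

attribute [local instance] Algebra.TensorProduct.rightAlgebra

/-- The residue extension at `q` is primary. -/
def PrimaryAt (A : Type u) [CommRing A] [IsLocalRing A] {B : Type u} [CommRing B] [Algebra A B] (q : Ideal B)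
    [q.IsPrime] : Prop :=
  ∀ z : q.ResidueField,
    (∃ P : Polynomial A, P.Monic ∧ (P.map (residue A)).Separable ∧ Polynomial.aeval z P = 0) →
      z ∈ (algebraMap A q.ResidueField).range

theorem PrimaryAt.sep {A B : Type u} [CommRing A] [IsLocalRing A] [CommRing B] [Algebra A B] {P : Ideal B} [P.IsPrime]
    (h : PrimaryAt A P) (κ : Type u) [Field κ] [Algebra (A ⧸ maximalIdeal A) κ] [Algebra A κ]
    [IsScalarTower A (A ⧸ maximalIdeal A) κ] [Algebra B κ] [IsScalarTower A B κ]
    (hκ : RingHom.ker (algebraMap B κ) = P) (hfrac : ∀ x : κ, ∃ b, ∃ t ∉ P, x * algebraMap B κ t = algebraMap B κ b)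
    (k' : Type u) [Field k'] [Algebra (A ⧸ maximalIdeal A) k'] :
    (nilradical (κ ⊗[A ⧸ maximalIdeal A] k')).IsPrime := by
  letI : Field (A ⧸ maximalIdeal A) := Ideal.Quotient.field _
  let k := A ⧸ maximalIdeal A
  let jκ : P.ResidueField →+* κ := Ideal.ResidueField.lift P (algebraMap B κ) hκ.ge
    (fun b hb => isUnit_iff_ne_zero.2 fun h0 => hb (hκ.le (RingHom.mem_ker.2 h0)))
  have hjs : Function.Surjective jκ := fun z => by
    obtain ⟨b, t, ht, hz⟩ := hfrac z
    refine ⟨algebraMap B P.ResidueField b / algebraMap B P.ResidueField t, ?_⟩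
    rw [map_div₀, Ideal.ResidueField.lift_algebraMap, Ideal.ResidueField.lift_algebraMap,
      div_eq_iff fun h0 => ht (hκ.le (RingHom.mem_ker.2 h0))]
    exact hz.symm
  have hjA : ∀ x, jκ (algebraMap A P.ResidueField x) = algebraMap A κ x := fun x => by
    rw [IsScalarTower.algebraMap_apply A B P.ResidueField, Ideal.ResidueField.lift_algebraMap,
      ← IsScalarTower.algebraMap_apply]
  have hsep : ∀ z : κ, IsSeparable k z → z ∈ Set.range (algebraMap k κ) := fun z hz => by
    have hint : IsIntegral k z := by
      by_contra h0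
      exact (Polynomial.Separable.ne_zero hz) (minpoly.eq_zero h0)
    obtain ⟨Pp, hP, -, hPm⟩ := Polynomial.lifts_and_natDegree_eq_and_monic
      ((Polynomial.lifts_iff_coeff_lifts _).2 fun i => Ideal.Quotient.mk_surjective ((minpoly k z).coeff i))
      (minpoly.monic hint)
    obtain ⟨w, hw⟩ := hjs z
    have hsepP : (Pp.map (residue A)).Separable := by
      show (Pp.map (Ideal.Quotient.mk (maximalIdeal A))).Separable
      rw [hP]
      exact hz
    have h0 : Polynomial.aeval w Pp = 0 := jκ.injective (by
      rw [map_zero, Polynomial.aeval_def, Polynomial.hom_eval₂, hw,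
        show jκ.comp (algebraMap A P.ResidueField) = (algebraMap k κ).comp (Ideal.Quotient.mk (maximalIdeal A)) from
          RingHom.ext fun x => (hjA x).trans (IsScalarTower.algebraMap_apply A k κ x),
        ← Polynomial.eval₂_map, hP]
      exact minpoly.aeval k z)
    obtain ⟨x, hx⟩ := h w ⟨Pp, hPm, hsepP, h0⟩
    refine ⟨Ideal.Quotient.mk _ x, ?_⟩
    rw [← hw, ← hx, hjA]
    exact (IsScalarTower.algebraMap_apply A k κ x).symm
  have hI := CAlgOdd.GeomIrrField.irreducibleSpace_tensor k κ hsep k'
  rw [PrimeSpectrum.irreducibleSpace_iff_isPrime_nilradical] at hI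
  have hn : nilradical (κ ⊗[k] k') = (nilradical (k' ⊗[k] κ)).comap
      (Algebra.TensorProduct.comm k κ k').toRingHom := by
    ext z
    simp only [mem_nilradical, Ideal.mem_comap]
    exact (IsNilpotent.map_iff (f := (Algebra.TensorProduct.comm k κ k').toRingEquiv) (RingEquiv.injective _)).symm
  rw [hn]
  exact hI.comap _

/-- Descent of flatness from one point of an injective extension of a local ring with nilpotent maximal ideal. -/
theorem flatAt_of_nilpotent {A B C : Type u} [CommRing A] [IsLocalRing A] (hnil : IsNilpotent (maximalIdeal A))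
    [CommRing B] [Algebra A B] [IsNoetherianRing B] [CommRing C] [IsLocalRing C] [Algebra A C]
    (hinj : Function.Injective (algebraMap A C)) (Q : Ideal (C ⊗[A] B)) [Q.IsPrime]
    (hQm : Q.comap (algebraMap C (C ⊗[A] B)) = maximalIdeal C) (P : Ideal B) [P.IsPrime]
    (hQP : Q.comap (Algebra.TensorProduct.includeRight : B →ₐ[A] C ⊗[A] B).toRingHom = P)
    (hprim : PrimaryAt A P) (h : FlatAt C Q) : FlatAt A P := by
  let T := C ⊗[A] B
  have hker : RingHom.ker (IsScalarTower.toAlgHom A C (ResidueField C)) = maximalIdeal C := ker_residue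
  rw [← flatAt_iff_localizedModule]
  refine GrFlat5.ArtinFamily.flat_of_detect (maximalIdeal A) hnil P B (I := PUnit.{u+1}) (fun _ => C)
    (fun _ => T) (fun x hx => hinj (by rw [map_zero]; exact hx PUnit.unit)) (fun _ => {⟨Q, inferInstance⟩})
    (fun i p hp => by rw [Set.mem_singleton_iff.1 hp]; exact hQP)
    (fun i p hp => by
      rw [Set.mem_singleton_iff.1 hp]
      haveI : Module.Flat C (LocalizedModule Q.primeCompl T) := (flatAt_iff_localizedModule C Q).2 h
      let j : T ⊗[B] B ≃ₗ[T] T := AlgebraTensorModule.rid B T T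
      haveI := IsLocalizedModule.of_linearEquiv_right Q.primeCompl (LocalizedModule.mkLinearMap Q.primeCompl T) j
      let l := IsLocalizedModule.iso Q.primeCompl (LocalizedModule.mkLinearMap Q.primeCompl T ∘ₗ j.toLinearMap)
      exact Module.Flat.of_linearEquiv (l.restrictScalars C)) fun i r m hm c hc j => ?_
  obtain ⟨N₀, hN⟩ := hnil
  have hnl : ∀ x ∈ maximalIdeal A, IsNilpotent x := fun x hx =>
    ⟨N₀, by rw [← Ideal.mem_bot, ← Ideal.zero_eq_bot, ← hN]; exact Ideal.pow_mem_pow hx _⟩
  have hma : maximalIdeal A ≤ RingHom.ker (algebraMap A (ResidueField C)) := fun x hx =>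
    ((hnl x hx).map (algebraMap A (ResidueField C))).eq_zero
  have hPm : maximalIdeal A ≤ P.comap (algebraMap A B) := fun x hx =>
    nilradical_le_prime P (mem_nilradical.2 ((hnl x hx).map (algebraMap A B)))
  refine (residue_eq_zero_iff _).1 (GrFlat5.ArtinPrimary.forall_theta_eq_zero_of_point (maximalIdeal A) T P hPm
    (IsScalarTower.toAlgHom A C (ResidueField C)) residue_surjective hma ?_ B m hm c Q hQP
    (hQm.trans hker.symm) (by rw [hker]; exact hc ⟨Q, inferInstance⟩ rfl) j)
  intro κ _ _ _ _ _ _ _ _ hκ hfrac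
  exact hprim.sep κ hκ hfrac (ResidueField C)

end Groth.Agent.FlatUnib5
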