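import Groth.Agent.FlatUnib5.NilBase
import Groth.Agent.LocalCrit.Flatness

/-!
# Flatness from one point of a local extension inducing the topology, for a primary residue extension
-/

set_option autoImplicit false
set_option synthInstance.maxHeartbeats 400000
set_option maxHeartbeats 1000000
set_option backward.isDefEq.respectTransparency false

universe u

open TensorProduct IsLocalRing

namespace Groth.Agent.FlatUnib5

attribute [local instance] Algebra.TensorProduct.rightAlgebra

/-- Step over an Artinian quotient. -/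
theorem flatAt_artinian {A B C : Type u} [CommRing A] [IsNoetherianRing A] [IsLocalRing A] [CommRing B]
    [Algebra A B] [Algebra.FiniteType A B] [CommRing C] [IsLocalRing C] [Algebra A C]
    [IsLocalHom (algebraMap A C)] (n : ℕ)
    (Q : Ideal (C ⊗[A] B)) [Q.IsPrime] (hQm : Q.comap (algebraMap C (C ⊗[A] B)) = maximalIdeal C)
    (q : Ideal B) [q.IsPrime]
    (hQq : Q.comap (Algebra.TensorProduct.includeRight : B →ₐ[A] C ⊗[A] B).toRingHom = q)
    (hprim : PrimaryAt A q) (h : FlatAt C Q) :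
    Module.Flat (A ⧸ (maximalIdeal C ^ (n + 1)).comap (algebraMap A C))
      ((A ⧸ (maximalIdeal C ^ (n + 1)).comap (algebraMap A C)) ⊗[A] Localization.AtPrime q) := by
  classical
  let a := (maximalIdeal C ^ (n + 1)).comap (algebraMap A C)
  let A₁ := A ⧸ a
  let C₁ := C ⧸ maximalIdeal C ^ (n + 1)
  have hCtop : maximalIdeal C ^ (n + 1) ≠ ⊤ := fun h =>
    (maximalIdeal.isMaximal C).ne_top (top_le_iff.1 (h ▸ Ideal.pow_le_self n.succ_ne_zero))
  haveI : Nontrivial C₁ := Ideal.Quotient.nontrivial_iff.2 hCtop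
  haveI : IsLocalRing C₁ := IsLocalRing.of_surjective' (Ideal.Quotient.mk _) Ideal.Quotient.mk_surjective
  letI : Algebra A₁ C₁ := (Ideal.quotientMap _ (algebraMap A C) (le_refl a)).toAlgebra
  haveI : IsScalarTower A A₁ C₁ := IsScalarTower.of_algebraMap_eq fun _ => rfl
  have hinj : Function.Injective (algebraMap A₁ C₁) := Ideal.quotientMap_injective
  have hatop : a ≠ ⊤ := fun h => hCtop ((Ideal.eq_top_iff_one _).2 (by
    simpa [a] using (Ideal.eq_top_iff_one a).1 h))
  haveI : Nontrivial A₁ := Ideal.Quotient.nontrivial_iff.2 hatop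
  haveI : IsLocalRing A₁ := IsLocalRing.of_surjective' (Ideal.Quotient.mk _) Ideal.Quotient.mk_surjective
  have hpow : maximalIdeal A ^ (n + 1) ≤ a := by
    refine Ideal.map_le_iff_le_comap.1 ?_
    rw [Ideal.map_pow]
    exact Ideal.pow_right_mono (Ideal.map_le_iff_le_comap.2 fun x hx => Ideal.mem_comap.2 (map_nonunit (algebraMap A C) x hx)) _
  have hnil : IsNilpotent (maximalIdeal A₁) := by
    refine ⟨n + 1, ?_⟩
    have : maximalIdeal A₁ ≤ (maximalIdeal A).map (Ideal.Quotient.mk a) := fun y hy => by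
      obtain ⟨x, rfl⟩ := Ideal.Quotient.mk_surjective y
      exact Ideal.mem_map_of_mem _ fun hx => hy (hx.map _)
    rw [Ideal.zero_eq_bot, eq_bot_iff]
    refine (Ideal.pow_right_mono this _).trans ?_
    rw [← Ideal.map_pow, le_bot_iff, Ideal.map_eq_bot_iff_le_ker, Ideal.mk_ker]
    exact hpow
  let B₁ := A₁ ⊗[A] B
  haveI : Algebra.FiniteType A₁ B₁ := inferInstance
  haveI : IsNoetherianRing B₁ := Algebra.FiniteType.isNoetherianRing A₁ B₁
  let T := C₁ ⊗[A₁] B₁
  let κQ := Q.ResidueField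
  letI : Algebra A κQ := ((algebraMap (C ⊗[A] B) κQ).comp (algebraMap A (C ⊗[A] B))).toAlgebra
  haveI : IsScalarTower A (C ⊗[A] B) κQ := IsScalarTower.of_algebraMap_eq fun _ => rfl
  let fC : C →ₐ[A] κQ := (IsScalarTower.toAlgHom A (C ⊗[A] B) κQ).comp (IsScalarTower.toAlgHom A C (C ⊗[A] B))
  let fB : B →ₐ[A] κQ := (IsScalarTower.toAlgHom A (C ⊗[A] B) κQ).comp Algebra.TensorProduct.includeRight
  have hfC : ∀ c, fC c = 0 ↔ c ∈ maximalIdeal C := fun c => by
    rw [← hQm]
    exact Ideal.algebraMap_residueField_eq_zero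
  have hfB : ∀ b, fB b = 0 ↔ b ∈ q := fun b => by
    rw [← hQq]
    exact Ideal.algebraMap_residueField_eq_zero
  let gC : C₁ →ₐ[A] κQ := Ideal.Quotient.liftₐ _ fC fun c hc => (hfC c).2 (Ideal.pow_le_self n.succ_ne_zero hc)
  let gA : A₁ →+* κQ := gC.toRingHom.comp (algebraMap A₁ C₁)
  letI : Algebra A₁ κQ := gA.toAlgebra
  haveI : IsScalarTower A A₁ κQ := IsScalarTower.of_algebraMap_eq fun x => (gC.commutes x).symm
  let gB : B₁ →ₐ[A₁] κQ := Algebra.TensorProduct.lift (Algebra.ofId A₁ κQ) fB (fun _ _ => Commute.all _ _)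
  letI : Algebra C₁ κQ := gC.toRingHom.toAlgebra
  haveI : IsScalarTower A₁ C₁ κQ := IsScalarTower.of_algebraMap_eq fun _ => rfl
  let gT : T →ₐ[C₁] κQ := Algebra.TensorProduct.lift (Algebra.ofId C₁ κQ) gB (fun _ _ => Commute.all _ _)
  let P₁ : Ideal B₁ := RingHom.ker gB.toRingHom
  haveI : P₁.IsPrime := RingHom.ker_isPrime _
  let Q₁ : Ideal T := RingHom.ker gT.toRingHom
  haveI : Q₁.IsPrime := RingHom.ker_isPrime _
  have hgB : ∀ b, gB ((1 : A₁) ⊗ₜ b) = fB b := fun b => by
    show algebraMap A₁ κQ 1 * fB b = _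
    rw [map_one, one_mul]
  have hQ₁P : Q₁.comap (algebraMap B₁ T) = P₁ := Ideal.ext fun b => by
    show algebraMap C₁ κQ 1 * gB b = 0 ↔ gB b = 0
    rw [map_one, one_mul]
  have hker : RingHom.ker (IsScalarTower.toAlgHom A₁ C₁ (ResidueField C₁)) = maximalIdeal C₁ := ker_residue
  have hmC₁ : ∀ x : C₁, gC x = 0 ↔ x ∈ maximalIdeal C₁ := fun x => by
    obtain ⟨c, rfl⟩ := Ideal.Quotient.mk_surjective x
    show fC c = 0 ↔ _
    rw [hfC, mem_maximalIdeal, mem_maximalIdeal, mem_nonunits_iff, mem_nonunits_iff]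
    refine not_congr ⟨fun h => h.map _, fun h => ?_⟩
    haveI : IsLocalHom (Ideal.Quotient.mk (maximalIdeal C ^ (n + 1))) :=
      IsLocalHom.of_surjective _ Ideal.Quotient.mk_surjective
    exact (isUnit_map_iff _ _).1 h
  have hQ₁m : Q₁.comap (algebraMap C₁ T) = maximalIdeal C₁ := Ideal.ext fun x => by
    refine Iff.trans ?_ (hmC₁ x)
    show gT (x ⊗ₜ[A₁] (1 : B₁)) = 0 ↔ _
    rw [Algebra.TensorProduct.lift_tmul, map_one, mul_one]
    rfl
  have hflatT : FlatAt (B := T) C₁ Q₁ := by
    let e : T ≃ₐ[C₁] C₁ ⊗[A] B := Algebra.TensorProduct.cancelBaseChange A A₁ C₁ C₁ B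
    let Q₂ : Ideal (C₁ ⊗[A] B) := Q₁.comap e.symm
    have h12 : Q₂.comap e = Q₁ := Ideal.ext fun t => by
      show e.symm (e t) ∈ Q₁ ↔ _
      rw [e.symm_apply_apply]
    have h2 : FlatAt C₁ Q₂ := by
      refine flatAt_tensor_tower Q₂ Q ?_ h
      ext t
      have key : gT (e.symm (Algebra.TensorProduct.map (IsScalarTower.toAlgHom A C C₁) (AlgHom.id A B) t)) =
          algebraMap (C ⊗[A] B) κQ t := by
        induction t using TensorProduct.induction_on with
        | zero => simp
        | tmul c b =>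
          rw [Algebra.TensorProduct.map_tmul]
          show algebraMap C₁ κQ (algebraMap C C₁ c) * gB ((1 : A₁) ⊗ₜ b) = _
          rw [hgB]
          show fC c * fB b = _
          simp only [fC, fB, AlgHom.comp_apply, IsScalarTower.coe_toAlgHom', Algebra.TensorProduct.includeRight_apply]
          rw [← map_mul]
          simp
        | add x y hx hy => simp only [map_add, hx, hy]
      show gT (e.symm _) = 0 ↔ _
      exact (Eq.congr_left key).trans Ideal.algebraMap_residueField_eq_zero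
    have h3 := (flatAt_equiv (A := C₁) (B := T) (B' := C₁ ⊗[A] B) e Q₂).2 h2
    simp only [h12] at h3
    exact h3
  have hsurj : Function.Surjective fun b : B => (1 : A₁) ⊗ₜ[A] b := by
    intro t
    induction t using TensorProduct.induction_on with
    | zero => exact ⟨0, TensorProduct.tmul_zero _ _⟩
    | tmul x b =>
      obtain ⟨x, rfl⟩ := Ideal.Quotient.mk_surjective x
      refine ⟨x • b, ?_⟩
      show (1 : A₁) ⊗ₜ[A] (x • b) = _
      rw [← TensorProduct.smul_tmul, ← Algebra.algebraMap_eq_smul_one]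
      rfl
    | add s t hs ht =>
      obtain ⟨s', rfl⟩ := hs; obtain ⟨t', rfl⟩ := ht
      exact ⟨s' + t', TensorProduct.tmul_add _ _ _⟩
  let φ : B →+* B₁ := (Algebra.TensorProduct.includeRight : B →ₐ[A] B₁).toRingHom
  have hφP : ∀ b, φ b ∈ P₁ ↔ b ∈ q := fun b => by
    rw [← hfB, ← hgB]
    exact Iff.rfl
  have hφA : ∀ x, φ (algebraMap A B x) = algebraMap A₁ B₁ (Ideal.Quotient.mk a x) := fun x =>
    (AlgHom.commutes _ _).trans (IsScalarTower.algebraMap_apply A A₁ B₁ x)
  have hprim₁ : PrimaryAt A₁ P₁ := by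
    rintro z ⟨P, hPm, hPsep, hPz⟩
    obtain ⟨P₀, hP₀, -, hP₀m⟩ := Polynomial.lifts_and_natDegree_eq_and_monic
      ((Polynomial.lifts_iff_coeff_lifts P).2 fun i => Ideal.Quotient.mk_surjective (P.coeff i)) hPm
    let j : q.ResidueField →+* P₁.ResidueField := Ideal.ResidueField.lift q ((algebraMap B₁ P₁.ResidueField).comp φ)
      (fun b hb => Ideal.algebraMap_residueField_eq_zero.2 ((hφP b).2 hb))
      (fun b hb => isUnit_iff_ne_zero.2 fun h0 => hb ((hφP b).1 (Ideal.algebraMap_residueField_eq_zero.1 h0)))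
    have hj : ∀ b, j (algebraMap B q.ResidueField b) = algebraMap B₁ P₁.ResidueField (φ b) := fun b => by
      simp [j]
    have hjs : Function.Surjective j := fun y => by
      obtain ⟨b₀, t₀, ht₀, rfl⟩ := IsFractionRing.div_surjective (A := B₁ ⧸ P₁) y
      obtain ⟨b₁, rfl⟩ := Ideal.Quotient.mk_surjective b₀
      obtain ⟨t₁, rfl⟩ := Ideal.Quotient.mk_surjective t₀
      obtain ⟨b, rfl⟩ := hsurj b₁
      obtain ⟨t, rfl⟩ := hsurj t₁
      refine ⟨algebraMap B q.ResidueField b / algebraMap B q.ResidueField t, ?_⟩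
      rw [map_div₀, hj, hj]
      rfl
    have hjA : ∀ x, j (algebraMap A q.ResidueField x) = algebraMap A₁ P₁.ResidueField (Ideal.Quotient.mk a x) :=
      fun x => by
        rw [IsScalarTower.algebraMap_apply A B q.ResidueField, hj, hφA, ← IsScalarTower.algebraMap_apply]
    obtain ⟨w, rfl⟩ := hjs z
    have h0 : Polynomial.aeval w P₀ = 0 := j.injective (by
      rw [map_zero, Polynomial.aeval_def, Polynomial.hom_eval₂,
        show j.comp (algebraMap A q.ResidueField) = (algebraMap A₁ P₁.ResidueField).comp (Ideal.Quotient.mk a) from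
          RingHom.ext hjA, ← Polynomial.eval₂_map, hP₀]
      exact hPz)
    haveI : IsLocalHom (Ideal.Quotient.mk a) := IsLocalHom.of_surjective _ Ideal.Quotient.mk_surjective
    have hsep₀ : (P₀.map (residue A)).Separable := by
      rw [← Polynomial.separable_map (ResidueField.map (Ideal.Quotient.mk a)), Polynomial.map_map,
        ResidueField.map_comp_residue, ← Polynomial.map_map, hP₀]
      exact hPsep
    obtain ⟨x, hx⟩ := hprim w ⟨P₀, hP₀m, hsep₀, h0⟩
    exact ⟨Ideal.Quotient.mk a x, by rw [← hx, hjA]⟩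
  have hflatP : Module.Flat A₁ (LocalizedModule P₁.primeCompl B₁) :=
    (flatAt_iff_localizedModule A₁ P₁).2 (flatAt_of_nilpotent hnil hinj Q₁ hQ₁m P₁ hQ₁P hprim₁ hflatT)
  haveI : Module.Flat A₁ (Localization.AtPrime P₁) := (flatAt_iff_localizedModule A₁ P₁).1 hflatP
  let Y := A₁ ⊗[A] Localization.AtPrime q
  letI : Algebra B₁ Y := tensorAlg A A₁ (Localization.AtPrime q)
  haveI := isLocalization_tensor (R := A) (R' := A₁) q.primeCompl (Localization.AtPrime q)
  have hsub : q.primeCompl.map (Algebra.TensorProduct.includeRight : B →ₐ[A] B₁).toRingHom = P₁.primeCompl := by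
    ext t
    constructor
    · rintro ⟨b, hb, rfl⟩ h0
      exact hb ((hfB b).1 ((hgB b).symm.trans h0))
    · intro ht
      obtain ⟨b, rfl⟩ := hsurj t
      exact ⟨b, fun hb => ht ((hgB b).trans ((hfB b).2 hb)), rfl⟩
  haveI : IsLocalization P₁.primeCompl Y := hsub ▸ this
  haveI : IsScalarTower A₁ B₁ Y := IsScalarTower.of_algebraMap_eq fun x =>
    ((Algebra.TensorProduct.map (AlgHom.id A₁ A₁) (IsScalarTower.toAlgHom A B (Localization.AtPrime q))).commutes x).symm
  exact Module.Flat.of_linearEquiv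
    ((IsLocalization.algEquiv P₁.primeCompl Y (Localization.AtPrime P₁)).restrictScalars A₁).toLinearEquiv

/-- **Flatness from one point of a local extension inducing the topology**, for a primary residue extension. -/
theorem flatAt_of_primary {A B C : Type u} [CommRing A] [IsNoetherianRing A] [IsLocalRing A] [CommRing B]
    [Algebra A B] [Algebra.FiniteType A B] [CommRing C] [IsLocalRing C] [Algebra A C]
    [IsLocalHom (algebraMap A C)]
    (htop : ∀ N : ℕ, ∃ n : ℕ, (maximalIdeal C ^ n).comap (algebraMap A C) ≤ maximalIdeal A ^ N)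
    (Q : Ideal (C ⊗[A] B)) [Q.IsPrime] (hQm : Q.comap (algebraMap C (C ⊗[A] B)) = maximalIdeal C)
    (q : Ideal B) [q.IsPrime]
    (hQq : Q.comap (Algebra.TensorProduct.includeRight : B →ₐ[A] C ⊗[A] B).toRingHom = q)
    (hprim : PrimaryAt A q) (h : FlatAt C Q) : FlatAt A q := by
  haveI : IsNoetherianRing B := Algebra.FiniteType.isNoetherianRing A B
  let X := Localization.AtPrime q
  haveI : IsNoetherianRing X := IsLocalization.isNoetherianRing q.primeCompl X inferInstance
  have hqm : ∀ a ∈ maximalIdeal A, algebraMap A B a ∈ q := fun a ha => by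
    rw [← hQq]
    have h1 : algebraMap A C a ∈ Q.comap (algebraMap C (C ⊗[A] B)) := hQm.ge (map_nonunit _ a ha)
    show (Algebra.TensorProduct.includeRight : B →ₐ[A] C ⊗[A] B) (algebraMap A B a) ∈ Q
    rw [AlgHom.commutes, IsScalarTower.algebraMap_apply A C (C ⊗[A] B)]
    exact h1
  have hjac : (maximalIdeal A).map (algebraMap A X) ≤ Ideal.jacobson ⊥ := by
    refine le_trans ?_ (maximalIdeal_le_jacobson _)
    refine Ideal.map_le_iff_le_comap.2 fun a ha => ?_
    rw [Ideal.mem_comap, IsScalarTower.algebraMap_apply A B X, IsLocalization.AtPrime.to_map_mem_maximal_iff X q]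
    exact hqm a ha
  refine LocalCrit.flat_of_forall_quotient_pow (B := X) (maximalIdeal A) hjac fun N => ?_
  obtain ⟨n, hn⟩ := htop N
  let a := (maximalIdeal C ^ (n + 1)).comap (algebraMap A C)
  have hle : a ≤ maximalIdeal A ^ N := (Ideal.comap_mono (Ideal.pow_le_pow_right n.le_succ)).trans hn
  haveI := flatAt_artinian n Q hQm q hQq hprim h
  let A₂ := A ⧸ maximalIdeal A ^ N
  letI : Algebra (A ⧸ a) A₂ := (Ideal.Quotient.factor hle).toAlgebra
  haveI : IsScalarTower A (A ⧸ a) A₂ := IsScalarTower.of_algebraMap_eq fun _ => rfl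
  haveI : Module.Flat A₂ (A₂ ⊗[A] X) :=
    Module.Flat.of_linearEquiv (AlgebraTensorModule.cancelBaseChange A (A ⧸ a) A₂ A₂ X).symm
  exact LocalCrit.keepsInjective_of_flat _ _

end Groth.Agent.FlatUnib5
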