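import Groth.Agent.FlatUnib5.Desc
import Groth.Agent.FlatLocus.Basic

/-!
# Points of a base change of an affine piece
-/

set_option autoImplicit false
set_option synthInstance.maxHeartbeats 400000
set_option maxHeartbeats 1000000
set_option backward.isDefEq.respectTransparency.types false
set_option backward.isDefEq.respectTransparency false

universe u

open TensorProduct IsLocalRing CategoryTheory CategoryTheory.Limits AlgebraicGeometry

namespace Groth.Agent.FlatUnib5

theorem stalkMap_flat_algebraMap {R S : Type u} [CommRing R] [CommRing S] [inst : Algebra R S] (Q : PrimeSpectrum S) :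
    ((Spec.map (CommRingCat.ofHom (algebraMap R S))).stalkMap Q).hom.Flat ↔ FlatAt R Q.asIdeal := by
  have h1 : ((Spec.map (CommRingCat.ofHom (algebraMap R S))).stalkMap Q).hom.Flat ↔
      (Localization.localRingHom (Q.asIdeal.comap (algebraMap R S)) Q.asIdeal (algebraMap R S) rfl).Flat :=
    (RingHom.toMorphismProperty RingHom.Flat).arrow_mk_iso_iff
      (Scheme.arrowStalkMapSpecIso (CommRingCat.ofHom (algebraMap R S)) Q)
  rw [h1]
  let p := Q.asIdeal.comap (algebraMap R S)
  let Rp := Localization.AtPrime p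
  let Sq := Localization.AtPrime Q.asIdeal
  let ψ : Rp →+* Sq := Localization.localRingHom p Q.asIdeal (algebraMap R S) rfl
  letI : Algebra Rp Sq := ψ.toAlgebra
  have : IsScalarTower R Rp Sq := IsScalarTower.of_algebraMap_eq fun r => by
    show algebraMap R Sq r = ψ (algebraMap R Rp r)
    rw [Localization.localRingHom_to_map]
    exact IsScalarTower.algebraMap_apply R S Sq r
  exact (show (Localization.localRingHom p Q.asIdeal (algebraMap R S) rfl).Flat ↔ Module.Flat Rp Sq from Iff.rfl).trans
    (Module.flat_iff_of_isLocalization Rp p.primeCompl Sq)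

/-- An affine piece at a point of a scheme over an affine scheme, with its base change. -/
theorem exists_affine_piece {A A' : Type u} [CommRing A] [CommRing A'] [Algebra A A'] {X : Scheme.{u}}
    (f : X ⟶ Spec (CommRingCat.of A)) [LocallyOfFinitePresentation f] (x : X) :
    ∃ (B : Type u) (_ : CommRing B) (_ : Algebra A B) (_ : Algebra.FinitePresentation A B) (q : Ideal B)
      (_ : q.IsPrime),
      q.comap (algebraMap A B) = (f x).asIdeal ∧ ((f.stalkMap x).hom.Flat ↔ FlatAt A q) ∧
      (∀ (Q : Ideal (A' ⊗[A] B)) [Q.IsPrime],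
        Q.comap (Algebra.TensorProduct.includeRight : B →ₐ[A] A' ⊗[A] B).toRingHom = q →
        ∃ x' : ↥(pullback f (Spec.map (CommRingCat.ofHom (algebraMap A A')))),
          (pullback.fst f _).base x' = x ∧
          ((pullback.snd f (Spec.map (CommRingCat.ofHom (algebraMap A A')))).base x').asIdeal =
            Q.comap (algebraMap A' (A' ⊗[A] B)) ∧
          (((pullback.snd f (Spec.map (CommRingCat.ofHom (algebraMap A A')))).stalkMap x').hom.Flat ↔ FlatAt A' Q)) ∧
      (∀ x' : ↥(pullback f (Spec.map (CommRingCat.ofHom (algebraMap A A')))), (pullback.fst f _).base x' = x →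
        ∃ (Q : Ideal (A' ⊗[A] B)) (_ : Q.IsPrime),
          Q.comap (Algebra.TensorProduct.includeRight : B →ₐ[A] A' ⊗[A] B).toRingHom = q ∧
          ((pullback.snd f (Spec.map (CommRingCat.ofHom (algebraMap A A')))).base x').asIdeal =
            Q.comap (algebraMap A' (A' ⊗[A] B)) ∧
          (((pullback.snd f (Spec.map (CommRingCat.ofHom (algebraMap A A')))).stalkMap x').hom.Flat ↔ FlatAt A' Q)) := by
  obtain ⟨U, hU, hxU, -⟩ := exists_isAffineOpen_mem_and_subset (x := x) (U := (⊤ : X.Opens)) trivial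
  let j := hU.fromSpec
  let φ := Spec.preimage (j ≫ f)
  have hφ : Spec.map φ = j ≫ f := Spec.map_preimage _
  haveI : LocallyOfFinitePresentation (Spec.map φ) := by rw [hφ]; infer_instance
  let B : Type u := Γ(X, U)
  letI : Algebra A B := φ.hom.toAlgebra
  have hB : Algebra.FinitePresentation A B := (LocallyOfFinitePresentation.SpecMap_iff φ).mp inferInstance
  obtain ⟨z₀, hz₀⟩ : x ∈ Set.range j := by rw [hU.range_fromSpec]; exact hxU
  let g : Spec (CommRingCat.of A') ⟶ Spec (CommRingCat.of A) := Spec.map (CommRingCat.ofHom (algebraMap A A'))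
  let q' := Spec.map (CommRingCat.ofHom (algebraMap A B))
  let m₀ : pullback g q' ⟶ pullback f g := (pullbackSymmetry g q').hom ≫
    pullback.map q' g f g j (𝟙 _) (𝟙 _) (by rw [Category.comp_id]; exact hφ) rfl
  let m : Spec (CommRingCat.of (A' ⊗[A] B)) ⟶ pullback f g := (pullbackSpecIso A A' B).inv ≫ m₀
  have hfst : m ≫ pullback.fst f g = Spec.map (CommRingCat.ofHom
      (Algebra.TensorProduct.includeRight : B →ₐ[A] A' ⊗[A] B).toRingHom) ≫ j := by
    simp only [m, m₀, pullback.map, Category.assoc, pullback.lift_fst, pullbackSymmetry_hom_comp_fst_assoc]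
    rw [← Category.assoc, pullbackSpecIso_inv_snd]
    rfl
  have hsnd : m ≫ pullback.snd f g = Spec.map (CommRingCat.ofHom (algebraMap A' (A' ⊗[A] B))) := by
    simp only [m, m₀, pullback.map, Category.assoc, pullback.lift_snd, Category.comp_id,
      pullbackSymmetry_hom_comp_snd]
    exact pullbackSpecIso_inv_fst' A A' B
  have hopen : IsOpenImmersion m := inferInstance
  have hflat : ∀ Q : PrimeSpectrum (A' ⊗[A] B),
      (((pullback.snd f g).stalkMap (m Q)).hom.Flat ↔ FlatAt A' Q.asIdeal) := fun Q => by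
    have h1 : ((m ≫ pullback.snd f g).stalkMap Q).hom.Flat ↔ ((pullback.snd f g).stalkMap (m Q)).hom.Flat := by
      rw [Scheme.Hom.stalkMap_comp]
      exact FlatLocus.flat_comp_isIso _ _
    rw [← h1, hsnd]
    exact stalkMap_flat_algebraMap Q
  refine ⟨B, inferInstance, inferInstance, hB, z₀.asIdeal, z₀.isPrime, ?_, ?_, fun Q _ hQ => ?_, fun x' hx' => ?_⟩
  · rw [← hz₀, ← Scheme.Hom.comp_apply, ← hφ]
    rfl
  · have h1 : ((j ≫ f).stalkMap z₀).hom.Flat ↔ (f.stalkMap (j z₀)).hom.Flat := by
      rw [Scheme.Hom.stalkMap_comp]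
      exact FlatLocus.flat_comp_isIso _ _
    rw [← hz₀, ← h1, ← hφ, FlatLocus.stalkMap_flat_SpecMap]
  · refine ⟨m (⟨Q, inferInstance⟩ : PrimeSpectrum _), ?_, ?_, hflat ⟨Q, inferInstance⟩⟩
    · show (pullback.fst f g) (m _) = x
      rw [← Scheme.Hom.comp_apply, hfst, Scheme.Hom.comp_apply, ← hz₀]
      exact congrArg j (PrimeSpectrum.ext hQ)
    · show ((pullback.snd f g) (m _)).asIdeal = _
      rw [← Scheme.Hom.comp_apply, hsnd]
      rfl
  · have hpb : ∃ w : ↥(pullback q' g), pullback.map q' g f g j (𝟙 _) (𝟙 _)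
        (by rw [Category.comp_id]; exact hφ) rfl w = x' := by
      refine Set.mem_range.1 ?_
      rw [Scheme.Pullback.range_map]
      refine ⟨?_, ?_⟩
      · exact ⟨z₀, hz₀.trans hx'.symm⟩
      · exact ⟨pullback.snd f g x', rfl⟩
    obtain ⟨w, hw⟩ := hpb
    let Q : PrimeSpectrum (A' ⊗[A] B) := (pullbackSpecIso A A' B).hom ((pullbackSymmetry g q').inv w)
    have hmQ : m Q = x' := by
      show ((pullbackSpecIso A A' B).inv ≫ m₀) ((pullbackSpecIso A A' B).hom ((pullbackSymmetry g q').inv w)) = x'
      rw [← Scheme.Hom.comp_apply, Iso.hom_inv_id_assoc, ← Scheme.Hom.comp_apply]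
      simp only [m₀, Iso.inv_hom_id_assoc]
      exact hw
    clear_value Q
    refine ⟨Q.asIdeal, Q.isPrime, ?_, ?_, hmQ ▸ hflat Q⟩
    · have h1 : j (Spec.map (CommRingCat.ofHom
          (Algebra.TensorProduct.includeRight : B →ₐ[A] A' ⊗[A] B).toRingHom) Q) = j z₀ :=
        ((congrArg (fun r : Spec (CommRingCat.of (A' ⊗[A] B)) ⟶ X => r Q) hfst).symm.trans
          ((congrArg (fun z => pullback.fst f g z) hmQ).trans hx')).trans hz₀.symm
      exact congrArg PrimeSpectrum.asIdeal (j.isOpenEmbedding.injective h1)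
    · show ((pullback.snd f g) x').asIdeal = _
      rw [← hmQ, ← Scheme.Hom.comp_apply, hsnd]
      rfl

end Groth.Agent.FlatUnib5
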